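import Groth.Agent.AbVar.K530.PicZero
import Groth.Prelude.Def_AgPol

/-!
# The Mumford class is algebraically equivalent to zero on the fibres of the second projection

`A` a group scheme over any base `S`, quasi-compact, locally of finite type, geometrically connected fibres;
`c : Pic A`.  The class `m^* c ⊗ p₁^* c⁻¹ ⊗ p₂^* c⁻¹` on `A ×_S A` is algebraically equivalent to zero on all geometric
fibres of the second projection (`fibZero_mum`).  `isPicZeroCl_of_isLambdaSheaf`: the same for the module `N` of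
`AgPol.IsLambda`.
-/

set_option autoImplicit false
universe u
open CategoryTheory CategoryTheory.Limits MonoidalCategory CartesianMonoidalCategory MonObj AlgebraicGeometry
open Groth.Agent Groth.Agent.Fdesc.LocGen Groth.Agent.Grpsch.PicGrp Groth.Agent.Fga.RigGrp
open Groth.Agent.Pic13.H138.AlgEquiv Groth.Agent.Pic13.H138.Slice K530.PicZero

namespace K528.MumZero

variable {S : Scheme.{u}}

/-- The class `m^* c ⊗ p₁^* c⁻¹ ⊗ p₂^* c⁻¹` on `A ×_S A`. -/
noncomputable def mumCl (A : Over S) [GrpObj A] (c : Pic A.left) : Pic (PicF.XT A.hom A) :=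
  pull (μ[A]).left c * (pull (fst A A).left c)⁻¹ * (pull (snd A A).left c)⁻¹

theorem pull_eq {X Y : Scheme.{u}} {f g : X ⟶ Y} (h : f = g) (c : Pic Y) : pull f c = pull g c := by rw [h]

/-- `mumCl` evaluated at a point `(x, y)` of `A × A`. -/
theorem pull_lift_mumCl (A : Over S) [GrpObj A] (c : Pic A.left) {T : Over S} (x y : T ⟶ A) :
    pull (lift x y).left (mumCl A c) = pull (x * y).left c * (pull x.left c)⁻¹ * (pull y.left c)⁻¹ := by
  rw [mumCl, map_mul, map_mul, map_inv, map_inv]
  erw [← pull_comp, ← pull_comp, ← pull_comp]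
  have e1 : (lift x y).left ≫ (μ[A]).left = (x * y).left := by
    rw [← Over.comp_left]; rfl
  have e2 : (lift x y).left ≫ (fst A A).left = x.left := by
    rw [← Over.comp_left, lift_fst]
  have e3 : (lift x y).left ≫ (snd A A).left = y.left := by
    rw [← Over.comp_left, lift_snd]
  rw [pull_eq e1, pull_eq e2, pull_eq e3]

/-- The Mumford class is algebraically equivalent to zero on the geometric fibres of the second projection. -/
theorem fibZero_mumCl (A : Over S) [GrpObj A] [LocallyOfFiniteType A.hom] [QuasiCompact A.hom]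
    [GeometricallyConnected A.hom] (c : Pic A.left) : FibZero (PicF.XTproj A.hom A) (mumCl A c) := by
  intro Ω _ _ σ
  rw [@mem_alg0_iff Ω _ (pullback (PicF.XTproj A.hom A) σ) (fibOver (PicF.XTproj A.hom A) σ) _ _]
  let _ : (pullback (PicF.XTproj A.hom A) σ).Over (Spec (CommRingCat.of Ω)) := fibOver (PicF.XTproj A.hom A) σ
  have hX : ((pullback (PicF.XTproj A.hom A) σ) ↘ Spec (CommRingCat.of Ω)) = pullback.snd (PicF.XTproj A.hom A) σ :=
    rfl
  have hT : ConnectedSpace ↥(pullback A.hom (σ ≫ A.hom)) :=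
    GeometricallyConnected.geometrically_connectedSpace (f := A.hom) (σ ≫ A.hom) _ (pullback.snd A.hom (σ ≫ A.hom))
      (IsPullback.of_hasPullback _ _)
  -- points
  obtain ⟨t, ht, ht'⟩ : ∃ t : Spec (CommRingCat.of Ω) ⟶ pullback A.hom (σ ≫ A.hom),
      t ≫ pullback.snd A.hom (σ ≫ A.hom) = 𝟙 _ ∧ t ≫ pullback.fst A.hom (σ ≫ A.hom) = σ :=
    ⟨pullback.lift σ (𝟙 _) (by simp), pullback.lift_snd _ _ _, pullback.lift_fst _ _ _⟩
  obtain ⟨t₀, ht₀, ht₀'⟩ : ∃ t₀ : Spec (CommRingCat.of Ω) ⟶ pullback A.hom (σ ≫ A.hom),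
      t₀ ≫ pullback.snd A.hom (σ ≫ A.hom) = 𝟙 _ ∧
        t₀ ≫ pullback.fst A.hom (σ ≫ A.hom) = (σ ≫ A.hom) ≫ (η[A]).left := by
    refine ⟨pullback.lift ((σ ≫ A.hom) ≫ (η[A]).left) (𝟙 _) ?_, pullback.lift_snd _ _ _, pullback.lift_fst _ _ _⟩
    rw [Category.assoc, Over.w, Category.id_comp]
    exact Category.comp_id _
  have c1 : pullback.fst A.hom A.hom ≫ A.hom = pullback.snd A.hom A.hom ≫ A.hom := pullback.condition
  have c2 : pullback.fst (PicF.XTproj A.hom A) σ ≫ pullback.snd A.hom A.hom =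
      pullback.snd (PicF.XTproj A.hom A) σ ≫ σ := pullback.condition
  have c3 : pullback.fst ((pullback (PicF.XTproj A.hom A) σ) ↘ Spec (CommRingCat.of Ω))
      (pullback.snd A.hom (σ ≫ A.hom)) ≫ pullback.snd (PicF.XTproj A.hom A) σ =
      pullback.snd _ _ ≫ pullback.snd A.hom (σ ≫ A.hom) := pullback.condition
  have c4 : pullback.fst A.hom (σ ≫ A.hom) ≫ A.hom = pullback.snd A.hom (σ ≫ A.hom) ≫ σ ≫ A.hom :=
    pullback.condition
  -- the map to A x A
  let PO : Over S := Over.mk (pullback.fst ((pullback (PicF.XTproj A.hom A) σ) ↘ Spec (CommRingCat.of Ω))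
    (pullback.snd A.hom (σ ≫ A.hom)) ≫ pullback.snd (PicF.XTproj A.hom A) σ ≫ σ ≫ A.hom)
  let x : PO ⟶ A := Over.homMk (pullback.fst ((pullback (PicF.XTproj A.hom A) σ) ↘ Spec (CommRingCat.of Ω))
    (pullback.snd A.hom (σ ≫ A.hom)) ≫ pullback.fst (PicF.XTproj A.hom A) σ ≫ pullback.fst A.hom A.hom) (by
      rw [Category.assoc, Category.assoc, c1, ← Category.assoc (pullback.fst (PicF.XTproj A.hom A) σ), c2,
        Category.assoc]
      rfl)
  let y : PO ⟶ A := Over.homMk (pullback.snd ((pullback (PicF.XTproj A.hom A) σ) ↘ Spec (CommRingCat.of Ω))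
    (pullback.snd A.hom (σ ≫ A.hom)) ≫ pullback.fst A.hom (σ ≫ A.hom)) (by
      rw [Category.assoc, c4, ← Category.assoc, ← c3, Category.assoc]
      rfl)
  refine ⟨pullback A.hom (σ ≫ A.hom), pullback.snd _ _, hT, inferInstance, inferInstance,
    pull (lift x y).left (mumCl A c), t, t₀, ht, ht₀, ?_, ?_⟩
  · rw [fibCl, ← pull_comp]
    refine pull_eq ?_ _
    apply pullback.hom_ext
    · have e : (lift x y).left ≫ pullback.fst A.hom A.hom = x.left := by
        change (lift x y).left ≫ (fst A A).left = x.left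
        rw [← Over.comp_left, lift_fst]
      rw [Category.assoc, e]
      change _ ≫ _ ≫ _ ≫ _ = _
      rw [sliceAt_fst_assoc]
    · have e : (lift x y).left ≫ pullback.snd A.hom A.hom = y.left := by
        change (lift x y).left ≫ (snd A A).left = y.left
        rw [← Over.comp_left, lift_snd]
      rw [Category.assoc, e]
      change _ ≫ _ ≫ _ = _
      rw [sliceAt_snd_assoc, c2, ht']
      rfl
  · let s₀ := Pic13.sliceAt Ω (pullback (PicF.XTproj A.hom A) σ) (pullback.snd A.hom (σ ≫ A.hom)) t₀ ht₀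
    let XO : Over S := Over.mk (s₀ ≫ PO.hom)
    let s' : XO ⟶ PO := Over.homMk s₀ rfl
    have e0 : XO.hom = pullback.snd (PicF.XTproj A.hom A) σ ≫ σ ≫ A.hom := by
      change s₀ ≫ _ ≫ _ ≫ _ = _
      rw [sliceAt_fst_assoc]
    have e1 : s' ≫ y = 1 := by
      apply Over.OverMorphism.ext
      have h1 : (1 : XO ⟶ A).left = XO.hom ≫ (η[A]).left := rfl
      rw [h1, e0, Over.comp_left]
      change s₀ ≫ _ ≫ _ = _
      rw [sliceAt_snd_assoc, ht₀']
      exact Category.assoc (pullback.snd (PicF.XTproj A.hom A) σ) (σ ≫ A.hom) (η[A]).left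
    have e2 : pull (1 : XO ⟶ A).left c = 1 := by
      have h1 : (1 : XO ⟶ A).left = pullback.snd (PicF.XTproj A.hom A) σ ≫ (σ ≫ A.hom) ≫ (η[A]).left := by
        have h1 : (1 : XO ⟶ A).left = XO.hom ≫ (η[A]).left := rfl
        rw [h1, e0]
        exact Category.assoc (pullback.snd (PicF.XTproj A.hom A) σ) (σ ≫ A.hom) (η[A]).left
      rw [pull_eq h1, pull_comp, pic_spec_local Ω (pull _ c), map_one]
    have e3 : pull s₀ (pull (lift x y).left (mumCl A c)) = pull (lift (s' ≫ x) (s' ≫ y)).left (mumCl A c) := by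
      rw [← comp_lift, Over.comp_left, pull_comp]
      rfl
    change pull s₀ (pull (lift x y).left (mumCl A c)) = 1
    rw [e3, pull_lift_mumCl, e1, _root_.mul_one, e2, inv_one, _root_.mul_one, mul_inv_cancel]

theorem aux {G : Type*} [CommGroup G] (n a b : G) : n = n * a * b * a⁻¹ * b⁻¹ := by
  rw [mul_right_comm (n * a) b a⁻¹, _root_.mul_inv_cancel_right, _root_.mul_inv_cancel_right]

/-- The module `N` of `AgPol.IsLambda` represents the Mumford class. -/
theorem mk_eq_mumCl (A : Over S) [GrpObj A] {L : A.left.Modules} (hL : PicF.IsInvertible L)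
    {N : (PicF.XT A.hom A).Modules} (hN : PicF.IsInvertible N)
    (h : AgPol.IsLambdaSheaf (μ[A].left : PicF.XT A.hom A ⟶ A.left) (fst A A).left (snd A A).left L N) :
    mk N hN = mumCl A (mk L hL) := by
  obtain ⟨e⟩ := h
  have h1 : mk N hN * pull (show PicF.XT A.hom A ⟶ A.left from (fst A A).left) (mk L hL) *
      pull (show PicF.XT A.hom A ⟶ A.left from (snd A A).left) (mk L hL) =
      pull (show PicF.XT A.hom A ⟶ A.left from (μ[A]).left) (mk L hL) := by
    rw [pull_mk, pull_mk, pull_mk, mk_mul_mk, mk_mul_mk]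
    exact mk_congr e
  have h2 : mumCl A (mk L hL) = pull (show PicF.XT A.hom A ⟶ A.left from (μ[A]).left) (mk L hL) *
      (pull (show PicF.XT A.hom A ⟶ A.left from (fst A A).left) (mk L hL))⁻¹ *
      (pull (show PicF.XT A.hom A ⟶ A.left from (snd A A).left) (mk L hL))⁻¹ := rfl
  rw [h2, ← h1]
  exact aux _ _ _

/-- The module `N` of `AgPol.IsLambda` has class in `Pic⁰` of the fibres of the second projection. -/
theorem isPicZeroCl_of_isLambdaSheaf (A : Over S) [GrpObj A] [LocallyOfFiniteType A.hom] [QuasiCompact A.hom]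
    [GeometricallyConnected A.hom] {L : A.left.Modules} (hL : PicF.IsInvertible L)
    {N : (PicF.XT A.hom A).Modules} (hN : PicF.IsInvertible N)
    (h : AgPol.IsLambdaSheaf (μ[A].left : PicF.XT A.hom A ⟶ A.left) (fst A A).left (snd A A).left L N) :
    AbDual.IsPicZeroCl A.hom A (PicF.cl N) := by
  have h1 := fibZero_mumCl A (mk L hL)
  rw [← mk_eq_mumCl A hL hN h, ← isPicZeroCl_toCl_iff] at h1
  exact h1

end K528.MumZero
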