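import Groth.Agent.AbVar.K528.Irr
import Groth.Agent.EtpbcA.CdFinDim

/-!
# The subgroup scheme generated by an irreducible closed subset of a proper group scheme

`exists_generated`: `k` algebraically closed, `G` a proper group scheme over `k`, `V` an irreducible closed subset
containing the unit; there is an integral closed subgroup scheme containing `V` all of whose rational points are in
the subgroup generated by the rational points of `V`.
-/

set_option autoImplicit false
universe u
open AlgebraicGeometry CategoryTheory Limits MonoidalCategory CartesianMonoidalCategory MonObj GrpObj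

namespace K528.Gen

open Groth.Agent.Books.AlgPts Groth.Agent.Books.AlgPtsGen Groth.Agent.Books.AlgPtsGrp K528.Irr
open scoped Pointwise

/-- An increasing sequence of irreducible closed subsets of a finite-dimensional space is stationary. -/
theorem exists_stable_irr {X : Type*} [TopologicalSpace X] (d : ℕ) (hd : topologicalKrullDim X ≤ d)
    (Z : ℕ → Set X) (hcl : ∀ n, IsClosed (Z n)) (hirr : ∀ n, IsIrreducible (Z n)) (hmono : Monotone Z) :
    ∃ N, ∀ n, N ≤ n → Z n = Z N := by
  let W : ℕ → TopologicalSpace.IrreducibleCloseds X := fun n => ⟨Z n, hirr n, hcl n⟩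
  have hW : Monotone W := fun a b h => hmono h
  have hle : ∀ n, Order.height (W n) ≤ (d : ℕ∞) := fun n => by
    have h1 : ((Order.height (W n) : ℕ∞) : WithBot ℕ∞) ≤ ((d : ℕ∞) : WithBot ℕ∞) :=
      (Order.height_le_krullDim (W n)).trans hd
    exact_mod_cast h1
  have hfin : ∀ n, Order.height (W n) < ⊤ := fun n => (hle n).trans_lt (ENat.natCast_lt_top d)
  -- choose `N` with maximal height
  let S : Set ℕ := Set.range fun n => (Order.height (W n)).toNat
  have hS : BddAbove S := ⟨d, by
    rintro _ ⟨n, rfl⟩
    exact ENat.toNat_le_of_le_natCast (hle n)⟩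
  obtain ⟨N, hN⟩ := Nat.sSup_mem (s := S) ⟨_, 0, rfl⟩ hS
  refine ⟨N, fun n hn => ?_⟩
  by_contra hne
  have hlt : W N < W n := lt_of_le_of_ne (hW hn) fun h => hne (congrArg TopologicalSpace.IrreducibleCloseds.carrier h).symm
  have h1 := Order.height_strictMono hlt (hfin N)
  have h2 : (Order.height (W N)).toNat < (Order.height (W n)).toNat := by
    rw [← ENat.natCast_toNat (hfin N).ne, ← ENat.natCast_toNat (hfin n).ne] at h1
    exact_mod_cast h1
  have h3 : (Order.height (W n)).toNat ≤ sSup S := le_csSup hS ⟨n, rfl⟩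
  have h4 : (Order.height (W N)).toNat = sSup S := hN
  omega

variable {k : Type u} [Field k] [IsAlgClosed k]

/-- The closed subgroup generated by the values of a morphism, for a proper group. -/
theorem exists_closed_subgroup {X G : Over (Spec (CommRingCat.of k))} [GrpObj G] [IsProper G.hom] [IsProper X.hom]
    [IsIntegral X.left] (f : X ⟶ G) (h1 : 1 ∈ vals f) (hinv : (vals f)⁻¹ = vals f) :
    ∃ N, IsClosed (Set.range (c f N).left) ∧ IsIrreducible (Set.range (c f N).left) ∧
      (∀ g : 𝟙_ (Over (Spec (CommRingCat.of k))) ⟶ G,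
        pt g ∈ Set.range (c f N).left ↔ g ∈ Subgroup.closure (vals f)) := by
  have hX : IsVar X := ⟨inferInstance, inferInstance, inferInstance, inferInstance⟩
  have hTp : ∀ n, IsProper (T X n).hom := by
    intro n
    induction n with
    | zero => exact (inferInstance : IsProper (𝟙 (Spec (CommRingCat.of k))))
    | succ n ih => exact K528.RedClosed.isProper_tensor (T X n) X
  have hTi : ∀ n, IsIntegral (T X n).left := fun n => (isVar_T hX n).isIntegral
  have hcp : ∀ n, IsProper (c f n).left := by
    intro n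
    have : IsProper ((c f n).left ≫ G.hom) := by rw [Over.w]; exact hTp n
    exact .of_comp _ G.hom
  have hcl : ∀ n, IsClosed (Set.range (c f n).left) := by
    intro n
    have := (c f n).left.isClosedMap _ isClosed_univ
    rwa [Set.image_univ] at this
  have hirr : ∀ n, IsIrreducible (Set.range (c f n).left) := by
    intro n
    have := (IrreducibleSpace.isIrreducible_univ (T X n).left).image _ (c f n).left.continuous.continuousOn
    rwa [Set.image_univ] at this
  obtain ⟨d, hd⟩ := Groth.Agent.EtpbcA.CdFinDim.exists_dim_le G.hom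
  obtain ⟨N, hN⟩ := exists_stable_irr d hd (fun n => Set.range (c f n).left) hcl hirr
    (monotone_nat_of_le_succ (range_c_subset f h1))
  have hmem : ∀ (n : ℕ) (g : 𝟙_ (Over (Spec (CommRingCat.of k))) ⟶ G), g ∈ vals f ^ n →
      pt g ∈ Set.range (c f N).left := by
    intro n g hg
    have h2 : g ∈ vals f ^ (max n N) := Set.pow_subset_pow_right h1 (le_max_left n N) hg
    rw [← pt_mem_range_iff hX] at h2
    have h3 := hN _ (le_max_right n N)
    simp only at h3
    rwa [h3] at h2
  have hiff : ∀ g : 𝟙_ (Over (Spec (CommRingCat.of k))) ⟶ G,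
      pt g ∈ Set.range (c f N).left ↔ g ∈ vals f ^ N := fun g => pt_mem_range_iff hX f N g
  let H : Subgroup (𝟙_ (Over (Spec (CommRingCat.of k))) ⟶ G) :=
    { carrier := {x | pt x ∈ Set.range (c f N).left}
      mul_mem' := by
        intro x y hx hy
        simp only [Set.mem_ofPred_eq, hiff] at hx hy
        refine hmem (N + N) _ ?_
        rw [pow_add]
        exact Set.mul_mem_mul hx hy
      one_mem' := hmem 0 1 (by simp)
      inv_mem' := by
        intro x hx
        simp only [Set.mem_ofPred_eq, hiff] at hx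
        refine hmem N _ ?_
        rw [← hinv, inv_pow]
        exact Set.inv_mem_inv.mpr hx }
  refine ⟨N, hcl N, hirr N, fun g => ⟨fun hg => ?_, fun hg => ?_⟩⟩
  · rw [hiff] at hg
    have h2 : ∀ n, (vals f) ^ n ⊆ (Subgroup.closure (vals f) : Set (𝟙_ (Over (Spec (CommRingCat.of k))) ⟶ G)) := by
      intro n
      induction n with
      | zero =>
        rw [pow_zero]
        rintro _ rfl
        exact (Subgroup.closure (vals f)).one_mem
      | succ n ih =>
        rw [pow_succ]
        rintro _ ⟨a, ha, b, hb, rfl⟩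
        exact (Subgroup.closure (vals f)).mul_mem (ih ha) (Subgroup.subset_closure hb)
    exact h2 N hg
  · have h2 : Subgroup.closure (vals f) ≤ H := by
      rw [Subgroup.closure_le]
      intro x hx
      exact hmem 1 x (by simpa using hx)
    exact h2 hg

/-- The closed subgroup scheme generated by an irreducible closed subset containing the unit. -/
theorem exists_generated (G : Over (Spec (CommRingCat.of k))) [GrpObj G] [IsProper G.hom]
    (V : Set G.left) (hV : IsClosed V) (hVirr : IsIrreducible V)
    (hV1 : pt (1 : 𝟙_ (Over (Spec (CommRingCat.of k))) ⟶ G) ∈ V) :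
    ∃ (B : Over (Spec (CommRingCat.of k))) (_ : GrpObj B) (i : B ⟶ G), IsMonHom i ∧ IsClosedImmersion i.left ∧
      IsIntegral B.left ∧ V ⊆ Set.range i.left ∧
      ∀ b : 𝟙_ (Over (Spec (CommRingCat.of k))) ⟶ B,
        b ≫ i ∈ Subgroup.closure {x : 𝟙_ (Over (Spec (CommRingCat.of k))) ⟶ G | pt x ∈ V} := by
  obtain ⟨P, j, hj, hPred, hPirr, hPr⟩ := exists_irrSub G V hV hVirr
  have hPp : IsProper P.hom := by rw [← Over.w j]; infer_instance
  have hPi : IsIntegral P.left := isIntegral_of_irreducibleSpace_of_isReduced P.left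
  have hPPi : IsIntegral (P ⊗ P).left := isIntegral_tensor P P
  have hPPp : IsProper (P ⊗ P).hom := K528.RedClosed.isProper_tensor P P
  let f : P ⊗ P ⟶ G := (fst P P ≫ j) * (snd P P ≫ j)⁻¹
  set S : Set (𝟙_ (Over (Spec (CommRingCat.of k))) ⟶ G) := {x | pt x ∈ V} with hS
  have hval : vals f = {g | ∃ a ∈ S, ∃ b ∈ S, g = a * b⁻¹} := by
    ext g
    constructor
    · rintro ⟨x, rfl⟩
      refine ⟨(x ≫ fst P P) ≫ j, ?_, (x ≫ snd P P) ≫ j, ?_, ?_⟩
      · rw [hS, Set.mem_ofPred_eq, pt_comp, ← hPr]; exact ⟨_, rfl⟩
      · rw [hS, Set.mem_ofPred_eq, pt_comp, ← hPr]; exact ⟨_, rfl⟩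
      · simp only [f]
        rw [MonObj.comp_mul, GrpObj.comp_inv, Category.assoc, Category.assoc]
    · rintro ⟨a, ha, b, hb, rfl⟩
      obtain ⟨a', ha'⟩ := exists_comp_eq_of_pt_mem_range j a (by rw [hPr]; exact ha)
      obtain ⟨b', hb'⟩ := exists_comp_eq_of_pt_mem_range j b (by rw [hPr]; exact hb)
      refine ⟨lift a' b', ?_⟩
      simp only [f]
      rw [MonObj.comp_mul, GrpObj.comp_inv, lift_fst_assoc, lift_snd_assoc, ha', hb']
  have h1 : (1 : 𝟙_ (Over (Spec (CommRingCat.of k))) ⟶ G) ∈ vals f := by
    rw [hval]; exact ⟨1, hV1, 1, hV1, by simp⟩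
  have hinv : (vals f)⁻¹ = vals f := by
    have h2 : ∀ g, g ∈ vals f → g⁻¹ ∈ vals f := by
      intro g hg
      rw [hval] at hg ⊢
      obtain ⟨a, ha, b, hb, rfl⟩ := hg
      exact ⟨b, hb, a, ha, by simp⟩
    ext g
    rw [Set.mem_inv]
    exact ⟨fun h => by simpa using h2 _ h, h2 g⟩
  have hSub : S ⊆ vals f := by
    intro a ha
    rw [hval]; exact ⟨a, ha, 1, hV1, by simp⟩
  obtain ⟨N, hcl, hirr, hiff⟩ := exists_closed_subgroup f h1 hinv
  obtain ⟨D, i, hi, hDred, hDirr, hDr⟩ := exists_irrSub G _ hcl hirr
  have hDp : IsProper D.hom := by rw [← Over.w i]; infer_instance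
  have hDi : IsIntegral D.left := isIntegral_of_irreducibleSpace_of_isReduced D.left
  have hDD : IsReduced (D ⊗ D).left := K528.RedClosed.isReduced_tensor D D
  obtain ⟨inst, hmon⟩ := exists_grpObj_of_points i (Subgroup.closure (vals f)) (fun x => by rw [hDr, hiff])
  refine ⟨D, inst, i, hmon, hi, hDi, ?_, fun b => ?_⟩
  · refine subset_of_forall_pt hV.isLocallyClosed i.left.isClosedEmbedding.isClosed_range fun x hx => ?_
    rw [hDr, hiff]
    exact Subgroup.subset_closure (hSub hx)
  · have h2 : b ≫ i ∈ Subgroup.closure (vals f) := by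
      rw [← hiff, ← hDr, pt_comp]
      exact ⟨_, rfl⟩
    have h3 : Subgroup.closure (vals f) ≤ Subgroup.closure S := by
      rw [Subgroup.closure_le]
      intro g hg
      rw [hval] at hg
      obtain ⟨a, ha, b, hb, rfl⟩ := hg
      exact (Subgroup.closure S).mul_mem (Subgroup.subset_closure ha)
        ((Subgroup.closure S).inv_mem (Subgroup.subset_closure hb))
    exact h3 h2

end K528.Gen
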