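import Groth.Agent.AbVar.K528.RedClosed
import Groth.Agent.Fdesc.GeomAlgClosed
import Mathlib.AlgebraicGeometry.Group.Abelian

/-!
# Irreducible closed subschemes and products over an algebraically closed field
-/

set_option autoImplicit false
universe u
open AlgebraicGeometry CategoryTheory Limits MonoidalCategory CartesianMonoidalCategory MonObj GrpObj

namespace K528.Irr

open Groth.Agent.Books.AlgPts Groth.Agent.Books.AlgPtsGen

variable {k : Type u} [Field k]

theorem irreducibleSpace_tensor [IsAlgClosed k] (X Y : Over (Spec (CommRingCat.of k))) [IrreducibleSpace X.left]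
    [IrreducibleSpace Y.left] : IrreducibleSpace (X ⊗ Y).left := by
  have : GeometricallyIrreducible X.hom :=
    Groth.Agent.Fdesc.GeomAlgClosed.geometricallyIrreducible_of_irreducibleSpace X.hom
  change IrreducibleSpace ↥(pullback X.hom Y.hom)
  infer_instance

theorem irreducibleSpace_of_range {P X : Scheme.{u}} (j : P ⟶ X) [IsClosedImmersion j]
    (h : IsIrreducible (Set.range j)) : IrreducibleSpace P := by
  have h2 := j.isClosedEmbedding.isEmbedding.toHomeomorph
  have h3 : IrreducibleSpace (Set.range j) := by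
    have h4 : PreirreducibleSpace (Set.range j) := Subtype.preirreducibleSpace h.isPreirreducible
    exact { toNonempty := h.nonempty.to_subtype }
  exact h2.symm.surjective.irreducibleSpace h2.symm.continuous

/-- A closed irreducible subset as an integral closed subobject. -/
theorem exists_irrSub (X : Over (Spec (CommRingCat.of k))) (Z : Set X.left) (hZ : IsClosed Z) (hirr : IsIrreducible Z) :
    ∃ (P : Over (Spec (CommRingCat.of k))) (j : P ⟶ X), IsClosedImmersion j.left ∧ IsReduced P.left ∧
      IrreducibleSpace P.left ∧ Set.range j.left = Z := by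
  obtain ⟨P, j, hj, hred, hr⟩ := K528.RedClosed.exists_redSub X Z hZ
  exact ⟨P, j, hj, hred, irreducibleSpace_of_range j.left (by rw [hr]; exact hirr), hr⟩

/-- The basic properties of an abelian variety over an algebraically closed field. -/
theorem isIntegral_of_av [IsAlgClosed k] (A : Over (Spec (CommRingCat.of k))) [GrpObj A] [IsProper A.hom]
    [Smooth A.hom] [GeometricallyConnected A.hom] : IsIntegral A.left := by
  have hred : IsReduced A.left := Groth.Agent.Books.AlgPtsSmooth.isReduced_of_smooth A
  have hconn : ConnectedSpace A.left :=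
    have : Subsingleton (Spec (CommRingCat.of k)) := inferInstanceAs (Subsingleton (PrimeSpectrum k))
    GeometricallyConnected.connectedSpace_of_subsingleton A.hom
  have hirr : IrreducibleSpace A.left := Groth.Agent.Books.AlgPtsIrred.irreducibleSpace_of_connectedSpace A
  exact isIntegral_of_irreducibleSpace_of_isReduced A.left

theorem isIntegral_tensor [IsAlgClosed k] (X Y : Over (Spec (CommRingCat.of k))) [LocallyOfFiniteType X.hom]
    [IsIntegral X.left] [IsIntegral Y.left] : IsIntegral (X ⊗ Y).left := by
  have := irreducibleSpace_tensor X Y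
  have := K528.RedClosed.isReduced_tensor X Y
  exact isIntegral_of_irreducibleSpace_of_isReduced _

theorem isCommMonObj_of_isIntegral [IsAlgClosed k] (A : Over (Spec (CommRingCat.of k))) [GrpObj A] [IsProper A.hom]
    [IsIntegral A.left] : IsCommMonObj A := by
  have := isIntegral_tensor A A
  exact isCommMonObj_of_isProper_of_isIntegral_tensorObj_of_isAlgClosed A

theorem eta_eq_one (A : Over (Spec (CommRingCat.of k))) [GrpObj A] :
    (η[A] : 𝟙_ (Over (Spec (CommRingCat.of k))) ⟶ A) = 1 := by
  rw [Hom.one_def, toUnit_unique (toUnit (𝟙_ _)) (𝟙 _), Category.id_comp]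

theorem lmul_comp_lmul (A : Over (Spec (CommRingCat.of k))) [GrpObj A]
    (x y : 𝟙_ (Over (Spec (CommRingCat.of k))) ⟶ A) : lmul x ≫ lmul y = lmul (y * x) := by
  rw [lmul, lmul, lmul, MonObj.comp_mul, Category.comp_id, ← Category.assoc,
    toUnit_unique (((toUnit A ≫ x) * 𝟙 A) ≫ toUnit A) (toUnit A), MonObj.comp_mul, ← _root_.mul_assoc]

theorem rmul_comp_rmul (A : Over (Spec (CommRingCat.of k))) [GrpObj A]
    (x y : 𝟙_ (Over (Spec (CommRingCat.of k))) ⟶ A) : rmul x ≫ rmul y = rmul (x * y) := by
  rw [rmul, rmul, rmul, MonObj.comp_mul, Category.comp_id, ← Category.assoc,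
    toUnit_unique ((𝟙 A * (toUnit A ≫ x)) ≫ toUnit A) (toUnit A), MonObj.comp_mul, _root_.mul_assoc]

theorem lmul_one (A : Over (Spec (CommRingCat.of k))) [GrpObj A] :
    lmul (1 : 𝟙_ (Over (Spec (CommRingCat.of k))) ⟶ A) = 𝟙 A := by
  rw [lmul, MonObj.comp_one, _root_.one_mul]

theorem rmul_one (A : Over (Spec (CommRingCat.of k))) [GrpObj A] :
    rmul (1 : 𝟙_ (Over (Spec (CommRingCat.of k))) ⟶ A) = 𝟙 A := by
  rw [rmul, MonObj.comp_one, _root_.mul_one]

/-- Left translation as an isomorphism. -/
noncomputable def lmulIso (A : Over (Spec (CommRingCat.of k))) [GrpObj A]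
    (x : 𝟙_ (Over (Spec (CommRingCat.of k))) ⟶ A) : A ≅ A where
  hom := lmul x
  inv := lmul x⁻¹
  hom_inv_id := by rw [lmul_comp_lmul, inv_mul_cancel, lmul_one]
  inv_hom_id := by rw [lmul_comp_lmul, mul_inv_cancel, lmul_one]

/-- Right translation as an isomorphism. -/
noncomputable def rmulIso (A : Over (Spec (CommRingCat.of k))) [GrpObj A]
    (x : 𝟙_ (Over (Spec (CommRingCat.of k))) ⟶ A) : A ≅ A where
  hom := rmul x
  inv := rmul x⁻¹
  hom_inv_id := by rw [rmul_comp_rmul, mul_inv_cancel, rmul_one]
  inv_hom_id := by rw [rmul_comp_rmul, inv_mul_cancel, rmul_one]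

end K528.Irr
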