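import Mathlib.Algebra.Homology.ShortComplex.ShortExact
import Mathlib.Algebra.Category.Grp.Abelian
import Mathlib.Algebra.Category.Grp.Preadditive
import Mathlib.Algebra.Category.Grp.Basic

/-!
# The descending induction, abstractly
-/

set_option autoImplicit false
universe u v w

open CategoryTheory CategoryTheory.Limits

namespace K528.DualGen

variable {C : Type u} [Category.{v} C] [Abelian C] (T : C ⥤ C ⥤ C) (H : ℕ → C ⥤ AddCommGrpCat.{w})

/-- If the identity of `W` is a sum of maps factoring through `V` and `π` is zero on the cohomology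
for `V` then it is zero for `W`. -/
theorem zero_of_retract [∀ X : C, (T.obj X).Additive] [∀ i, (H i).Additive] {Ω Ω' : C} (π : Ω ⟶ Ω')
    {W V : C} (i : ℕ)
    (h : (H i).map ((T.map π).app V) = 0) {κ : Type*} [Fintype κ] (a : κ → (W ⟶ V))
    (b : κ → (V ⟶ W)) (hab : ∑ j, a j ≫ b j = 𝟙 W) : (H i).map ((T.map π).app W) = 0 := by
  have h1 : (T.map π).app W = ∑ j, (T.obj Ω).map (a j) ≫ (T.map π).app V ≫ (T.obj Ω').map (b j) := by
    calc (T.map π).app W = (T.obj Ω).map (𝟙 W) ≫ (T.map π).app W := by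
          rw [(T.obj Ω).map_id, Category.id_comp]
      _ = ∑ j, (T.obj Ω).map (a j ≫ b j) ≫ (T.map π).app W := by
          rw [← hab, (T.obj Ω).map_sum, Preadditive.sum_comp]
      _ = _ := Finset.sum_congr rfl fun j _ => by
          rw [(T.obj Ω).map_comp, Category.assoc, NatTrans.naturality]
  rw [h1, (H i).map_sum]
  refine Finset.sum_eq_zero fun j _ => ?_
  rw [(H i).map_comp, (H i).map_comp, h, zero_comp, comp_zero]

theorem main (g : ℕ) {ι : Type*} (Ω₀ : C) (Ω : ι → C) (π : ∀ e, Ω₀ ⟶ Ω e) (𝒢 : C → Prop)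
    (htop : ∀ j : ℕ, g ≤ j → ∀ V, Subsingleton ((H (j + 1)).obj ((T.obj Ω₀).obj V)))
    (hinj : ∀ V, 𝒢 V → ∀ (j : ℕ) (c : (H (j + 1)).obj ((T.obj Ω₀).obj V)),
      (∀ e, ((H (j + 1)).map ((T.map (π e)).app V)).hom c = 0) → c = 0)
    (hex : ∀ (V₁ W V : C) (f : V₁ ⟶ W) (p : W ⟶ V) (w : f ≫ p = 0), 𝒢 V →
      (ShortComplex.mk f p w).ShortExact → ∀ j : ℕ,
      Subsingleton ((H (j + 1)).obj ((T.obj Ω₀).obj V₁)) →
      Function.Surjective ((H j).map ((T.obj Ω₀).map p)).hom)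
    (step : ∀ V, 𝒢 V → ∀ e, ∃ (V₁ W : C) (f : V₁ ⟶ W) (p : W ⟶ V) (w : f ≫ p = 0),
      𝒢 V₁ ∧ (ShortComplex.mk f p w).ShortExact ∧
        ∀ j : ℕ, (H (j + 1)).map ((T.map (π e)).app W) = 0) (n : ℕ) :
    ∀ j : ℕ, g ≤ j + n → ∀ V, 𝒢 V → Subsingleton ((H (j + 1)).obj ((T.obj Ω₀).obj V)) := by
  induction n with
  | zero =>
    intro j hj V _
    exact htop j (by omega) V
  | succ n ih =>
    intro j hj V hV
    refine subsingleton_of_forall_eq 0 fun c => ?_
    refine hinj V hV j c fun e => ?_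
    obtain ⟨V₁, W, f, p, w, hV₁, hS, hz⟩ := step V hV e
    obtain ⟨c', rfl⟩ := hex V₁ W V f p w hV hS (j + 1) (ih (j + 1) (by omega) V₁ hV₁) c
    have h1 : (H (j + 1)).map ((T.obj Ω₀).map p) ≫ (H (j + 1)).map ((T.map (π e)).app V) = 0 := by
      rw [← (H (j + 1)).map_comp, NatTrans.naturality, (H (j + 1)).map_comp, hz j, zero_comp]
    exact congrArg (fun t => t.hom c') h1

end K528.DualGen
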