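import Groth.Agent.AbVar.K528.LimTens
import Groth.Agent.AbVar.K528.DualGen
import Groth.Agent.CohDim.K685.DualEmb
import Groth.Agent.CohqB.HLin
import Groth.Agent.S0458

/-!
# The descending induction

`Y` proper over a field, `Ω` a Mittag-Leffler tower of coherent modules, `𝒢` a class of dualizable
modules such that every `V ∈ 𝒢` is, for every `e`, a quotient of some `W` killing the maps
`H^j(lim Ω ⊗ W) → H^j(Ω_e ⊗ W)`, `j > 0`, with kernel in `𝒢`. Then `H^j(lim Ω ⊗ V) = 0` for `j > 0`.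
-/

set_option autoImplicit false
universe u
open CategoryTheory CategoryTheory.Limits MonoidalCategory AlgebraicGeometry Opposite TopologicalSpace

namespace K528.DualInd

open Groth.Agent Groth.Agent.CohqB.HLin
open scoped Groth.Agent.Dcoh.MonCat

/-- The cohomology functors on modules. -/
noncomputable def Hf (Y : Scheme.{u}) (i : ℕ) : Y.Modules ⥤ AddCommGrpCat.{u} where
  obj M := AddCommGrpCat.of (HX Y ((toAbF Y).obj M) i)
  map φ := AddCommGrpCat.ofHom (mapX ((toAbF Y).map φ) i)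
  map_id M := by
    ext x
    exact (congrArg (fun t => mapX t i x) ((toAbF Y).map_id M)).trans (mapX_id _ _ _)
  map_comp f g := by
    ext x
    exact (congrArg (fun t => mapX t i x) ((toAbF Y).map_comp f g)).trans (mapX_comp _ _ _ _)

instance additive_Hf (Y : Scheme.{u}) (i : ℕ) : (Hf Y i).Additive where
  map_add {M N f g} := by
    ext x
    exact (congrArg (fun t => mapX t i x) ((toAbF Y).map_add (f := f) (g := g))).trans
      (mapX_add _ _ _ _)

variable {Y : Scheme.{u}}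

theorem subsingleton_iff (M : Y.Modules) (i : ℕ) :
    Subsingleton ((Hf Y i).obj M) ↔ Subsingleton (Coh.HH Y M i) := Iff.rfl

theorem main (k : Type u) [Field k] [Y.Over (Spec (CommRingCat.of k))]
    [IsProper (Y ↘ Spec (CommRingCat.of k))] [NoetherianSpace Y] (g : ℕ)
    (hdim : topologicalKrullDim Y ≤ g)
    (Ω : ℕᵒᵖ ⥤ Y.Modules) (hΩ : ∀ n : ℕᵒᵖ, Coh.IsCoh (Ω.obj n)) (hML : K415.TowerSheaf.IsML Ω)
    (𝒢 : Y.Modules → Prop)
    (hd : ∀ V, 𝒢 V → FlatMod.IsFinLocFree V ∧ ∃ E : Y.Modules, Nonempty (ExactPairing E V))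
    (step : ∀ V, 𝒢 V → ∀ e : ℕ, ∃ (V₁ W : Y.Modules) (f : V₁ ⟶ W) (p : W ⟶ V) (w : f ≫ p = 0),
      𝒢 V₁ ∧ (ShortComplex.mk f p w).ShortExact ∧
        ∀ j : ℕ, (Hf Y (j + 1)).map ((DCoh.tensorBi.map (limit.π Ω (op e))).app W) = 0)
    (j : ℕ) (V : Y.Modules) (hV : 𝒢 V) :
    Subsingleton (Coh.HH Y ((DCoh.tensorBi.obj (limit Ω)).obj V) (j + 1)) := by
  refine (subsingleton_iff _ _).1 (DualGen.main DCoh.tensorBi (Hf Y) g (limit Ω)
    (fun e : ℕ => Ω.obj (op e)) (fun e => limit.π Ω (op e)) 𝒢 ?_ ?_ ?_ step g j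
    (Nat.le_add_left _ _) V hV)
  · intro j hj V
    have hN : NoetherianSpace (Y.toTopCat : Type u) := inferInstanceAs (NoetherianSpace Y)
    exact (subsingleton_iff _ _).2 (S0458.result (X := Y.toTopCat) g hdim _ (j + 1) (by omega))
  · intro V hV j c hc
    obtain ⟨hVf, E, ⟨hEV⟩⟩ := hd V hV
    exact LimTens.eq_zero k Ω hΩ hML (E := E) hVf j c hc
  · intro V₁ W V f p w hV hS j hs c
    have hT := Dcoh.FlatSES.shortExact_tensor' hS
      (Dcoh.Spread.isFlat_of_isFinLocFree (hd V hV).1) (limit Ω)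
    have hT' := shortExact_toAb hT
    exact (X_exact₃ hT' j c).1 (hs.elim _ _)

end K528.DualInd
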