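import Groth.Agent.CohDim.K685.DualEmb
import Groth.Agent.CohDim.K685.ResolAmple
import Groth.Agent.Dcoh.DualSum
import Groth.Agent.Dcoh.MonAdj
import Groth.Agent.VarietyA.AmpleNegPow
import Groth.Agent.Sga2.PnCoprod
import Groth.Agent.Grpsch.PicGrp

/-!
# Embedding a finite locally free module into a sum of powers of an ample module

with finite locally free cokernel.
-/

set_option autoImplicit false
universe u v w
open CategoryTheory CategoryTheory.Limits MonoidalCategory AlgebraicGeometry TopologicalSpace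

namespace K528.EmbAmp

open Groth.Agent
open scoped Groth.Agent.Dcoh.MonCat

section Inv

variable {C : Type u} [Category.{v} C] [MonoidalCategory C]

/-- Tensoring with an invertible object is an equivalence. -/
noncomputable def tensEquiv {K K' : C} (e : K ⊗ K' ≅ 𝟙_ C) (e' : K' ⊗ K ≅ 𝟙_ C) : C ≌ C :=
  CategoryTheory.Equivalence.mk (tensorRight K) (tensorRight K')
    ((rightUnitorNatIso C).symm ≪≫ (tensoringRight C).mapIso e.symm ≪≫ tensorRightTensor K K')
    ((tensorRightTensor K' K).symm ≪≫ (tensoringRight C).mapIso e' ≪≫ rightUnitorNatIso C)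

/-- A dual of an invertible object is its inverse. -/
theorem nonempty_dual_inv {K K' Y : C} [ExactPairing K Y] (e : K ⊗ K' ≅ 𝟙_ C)
    (e' : K' ⊗ K ≅ 𝟙_ C) : Nonempty (Y ≅ K') := by
  obtain ⟨t⟩ := Dcoh.MonAdj.nonempty_dual_unit Y (K := K) ⟨Iso.refl _⟩ (tensEquiv e e').toAdjunction
  exact ⟨t ≪≫ λ_ K'⟩

end Inv

section Emb

variable {X : Scheme.{u}}

open Groth.Agent.Grpsch.PicGrp Groth.Agent.Fdesc.LocGen in
/-- A finite locally free module embeds into a finite direct sum of copies of `L^n`, `n ≥ m₀`, with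
finite locally free cokernel. -/
theorem exists_embed {L L' : X.Modules} (hL : CohB1.IsAmple L) (hL' : PicF.IsInvertible L')
    (e : CohB1.tensorMod L L' ≅ Coh.structureModule X) (m₀ : ℕ) (Q : X.Modules)
    (hQ : FlatMod.IsFinLocFree Q) :
    ∃ (n : ℕ) (_ : m₀ ≤ n) (E Q1 : X.Modules) (f : Q ⟶ E) (g : E ⟶ Q1) (w : f ≫ g = 0),
      FlatMod.IsFinLocFree E ∧ FlatMod.IsFinLocFree Q1 ∧ (ShortComplex.mk f g w).ShortExact ∧
      ∃ (κ : Type u) (_ : Fintype κ) (a : κ → (E ⟶ CohB1.tensorPow L n))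
        (b : κ → (CohB1.tensorPow L n ⟶ E)), ∑ i, a i ≫ b i = 𝟙 E := by
  classical
  obtain ⟨Q', ⟨hQQ'⟩⟩ := Dcoh.DualFLF.exists_exactPairing hQ
  have hQ' : FlatMod.IsFinLocFree Q' := Dcoh.DualFLF.isFinLocFree_dual hQ Q'
  have hc : Coh.IsCoh Q' := PerfA.CohSerre.isCoh_of_isFinLocFree hQ'
  obtain ⟨n, hn, κ, hκ, φ, hφ⟩ := VarietyA.AmpleNegPow.exists_epi hL e m₀ hc.1 hc.2
  have hκ' : Fintype κ := Fintype.ofFinite κ
  let P : X.Modules := CohB1.tensorPow L' n
  have hP : PicF.IsInvertible P := isInvertible_tensorPow hL' n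
  have hPf : FlatMod.IsFinLocFree P := K685.ResolAmple.isFinLocFree_of_isInvertible hP
  obtain ⟨G, ⟨hPG⟩⟩ := Dcoh.DualFLF.exists_exactPairing hPf
  have hmk : mk P hP * mk (CohB1.tensorPow L n) (isInvertible_tensorPow hL.1 n) = 1 := by
    have h1 : mk L hL.1 * mk L' hL' = 1 := by
      rw [mk_mul_mk, mk_eq_one_iff]
      exact ⟨e⟩
    have h2 : mk P hP = mk L' hL' ^ n := mk_tensorPow hL' n
    have h3 : mk (CohB1.tensorPow L n) (isInvertible_tensorPow hL.1 n) = mk L hL.1 ^ n := mk_tensorPow hL.1 n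
    rw [h2, h3, ← mul_pow, mul_comm (mk L' hL'), h1, one_pow]
  have hi1 : Nonempty (P ⊗ CohB1.tensorPow L n ≅ 𝟙_ X.Modules) := by
    rw [mk_mul_mk, mk_eq_one_iff] at hmk
    exact hmk
  have hi2 : Nonempty (CohB1.tensorPow L n ⊗ P ≅ 𝟙_ X.Modules) := by
    rw [mul_comm, mk_mul_mk, mk_eq_one_iff] at hmk
    exact hmk
  obtain ⟨i1⟩ := hi1
  obtain ⟨i2⟩ := hi2
  obtain ⟨θ⟩ := nonempty_dual_inv (Y := G) i1 i2
  let E0 : X.Modules := ∐ fun _ : κ => P
  let E : X.Modules := ∐ fun _ : κ => G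
  let hEE : ExactPairing E0 E := Dcoh.DualSum.exactPairingCoprod (fun _ : κ => P) (fun _ : κ => G)
  have hE0 : FlatMod.IsFinLocFree E0 := Sga2.PnCoprod.isFinLocFree_coproduct _ fun _ => hPf
  have hE : FlatMod.IsFinLocFree E := Dcoh.DualFLF.isFinLocFree_dual hE0 E
  let p : E0 ⟶ Q' := Sigma.desc φ
  have hp : Epi p := hφ
  have hK : FlatMod.IsFinLocFree (kernel p) := Dcoh.Spread.isFinLocFree_kernel p hE0 hQ'
  obtain ⟨K', ⟨hKK'⟩⟩ := Dcoh.DualFLF.exists_exactPairing hK
  have hK' : FlatMod.IsFinLocFree K' := Dcoh.DualFLF.isFinLocFree_dual hK K'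
  let S : ShortComplex X.Modules := ShortComplex.mk (kernel.ι p) p (kernel.condition p)
  have hS : S.ShortExact := { exact := ShortComplex.exact_kernel p, mono_f := by dsimp [S]; infer_instance, epi_g := hp }
  let h1 : HasRightDual S.X₁ := { rightDual := K', exact := hKK' }
  let h2 : HasRightDual S.X₂ := { rightDual := E, exact := hEE }
  let h3 : HasRightDual S.X₃ := { rightDual := Q, exact := BraidedCategory.exactPairing_swap Q Q' }
  have key := K685.DualSes.shortExact_mate S (K685.DualEmb.epi_whiskerLeft hS)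
    (K685.DualEmb.exact_whiskerLeft hS hQ') (K685.DualEmb.mono_whiskerRight hS hQ')
  refine ⟨n, hn, E, K', _, _, _, hE, hK', key, κ, hκ', fun i => Dcoh.DualSum.sigmaπ (fun _ : κ => G) i ≫ θ.hom,
    fun i => θ.inv ≫ Sigma.ι (fun _ : κ => G) i, ?_⟩
  rw [← Dcoh.DualSum.sum_sigmaπ (fun _ : κ => G)]
  refine Finset.sum_congr rfl fun i _ => ?_
  rw [Category.assoc, Iso.hom_inv_id_assoc]

end Emb

end K528.EmbAmp
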