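import Groth.Agent.Fdesc.LocGen

/-!
# Modules supported inside an open subscheme are pushed forward from it
-/

set_option autoImplicit false
universe u
open CategoryTheory CategoryTheory.Limits AlgebraicGeometry Opposite TopologicalSpace

namespace K528.SuppGlue

open Groth.Agent.Fdesc.LocGen

variable {U X : Scheme.{u}}

/-- If `M` vanishes on `V` and `X = j(U) ∪ V`, then `M ≅ j_* (M|_U)`. -/
theorem isIso_unit (j : U ⟶ X) [IsOpenImmersion j] (V : X.Opens) (hjV : j.opensRange ⊔ V = ⊤) (M : X.Modules)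
    (hV : ∀ W : X.Opens, W ≤ V → Subsingleton Γ(M, W)) :
    IsIso ((Scheme.Modules.restrictAdjunction j).unit.app M) := by
  rw [Scheme.Modules.Hom.isIso_iff_isIso_app]
  intro W
  rw [ConcreteCategory.isIso_iff_bijective]
  have hle : j ''ᵁ j ⁻¹ᵁ W ≤ W := j.image_preimage_le W
  have hcov : W ≤ ⨆ b : Bool, (if b then j ''ᵁ j ⁻¹ᵁ W else W ⊓ V) := by
    intro x hx
    have hx' : x ∈ j.opensRange ⊔ V := by rw [hjV]; trivial
    rcases hx' with h | h
    · refine Opens.mem_iSup.mpr ⟨true, ?_⟩
      rw [if_pos rfl, Scheme.Hom.image_preimage_eq_opensRange_inf]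
      exact ⟨h, hx⟩
    · refine Opens.mem_iSup.mpr ⟨false, ?_⟩
      simp only [Bool.false_eq_true, if_false]
      exact ⟨hx, h⟩
  have hle' : ∀ b : Bool, (if b then j ''ᵁ j ⁻¹ᵁ W else W ⊓ V) ≤ W := by
    intro b
    cases b
    · simp
    · simpa using hle
  have hsub : ∀ P : X.Opens, P ≤ W ⊓ V → Subsingleton Γ(M, P) := fun P hP => hV P (hP.trans inf_le_right)
  have happ : ∀ s : Γ(M, W), ((Scheme.Modules.restrictAdjunction j).unit.app M).app W s = res M hle s := by
    intro s
    rw [Scheme.Modules.restrictAdjunction_unit_app_app]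
    rfl
  constructor
  · intro a b hab
    rw [happ, happ] at hab
    refine res_ext M (fun b : Bool => (if b then j ''ᵁ j ⁻¹ᵁ W else W ⊓ V)) hle' hcov fun b => ?_
    cases b
    · have := hsub _ (show (if false = true then j ''ᵁ j ⁻¹ᵁ W else W ⊓ V) ≤ W ⊓ V by simp)
      exact Subsingleton.elim _ _
    · exact hab
  · intro t
    obtain ⟨s, hs⟩ := res_glue M (fun b : Bool => (if b then j ''ᵁ j ⁻¹ᵁ W else W ⊓ V)) hle' hcov
      (fun b => match b with
        | true => t
        | false => 0) (by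
      intro b c
      cases b
      · have := hsub ((if false = true then j ''ᵁ j ⁻¹ᵁ W else W ⊓ V) ⊓
          (if c = true then j ''ᵁ j ⁻¹ᵁ W else W ⊓ V)) (inf_le_left.trans (by simp))
        exact Subsingleton.elim _ _
      · cases c
        · have := hsub ((if true = true then j ''ᵁ j ⁻¹ᵁ W else W ⊓ V) ⊓
            (if false = true then j ''ᵁ j ⁻¹ᵁ W else W ⊓ V)) (inf_le_right.trans (by simp))
          exact Subsingleton.elim _ _
        · rfl)
    refine ⟨s, ?_⟩
    rw [happ]
    exact hs true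

/-- Two modules vanishing on `V` with isomorphic restrictions to `U` are isomorphic. -/
theorem nonempty_iso (j : U ⟶ X) [IsOpenImmersion j] (V : X.Opens) (hjV : j.opensRange ⊔ V = ⊤) (M N : X.Modules)
    (hM : ∀ W : X.Opens, W ≤ V → Subsingleton Γ(M, W)) (hN : ∀ W : X.Opens, W ≤ V → Subsingleton Γ(N, W))
    (e : (Scheme.Modules.pullback j).obj M ≅ (Scheme.Modules.pullback j).obj N) : Nonempty (M ≅ N) := by
  have h1 := isIso_unit j V hjV M hM
  have h2 := isIso_unit j V hjV N hN
  exact ⟨asIso ((Scheme.Modules.restrictAdjunction j).unit.app M) ≪≫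
    (Scheme.Modules.pushforward j).mapIso ((Scheme.Modules.restrictFunctorIsoPullback j).app M ≪≫ e ≪≫
      ((Scheme.Modules.restrictFunctorIsoPullback j).app N).symm) ≪≫
    (asIso ((Scheme.Modules.restrictAdjunction j).unit.app N)).symm⟩

/-- A module vanishing on `V` whose restriction to `U` is zero is zero. -/
theorem isZero (j : U ⟶ X) [IsOpenImmersion j] (V : X.Opens) (hjV : j.opensRange ⊔ V = ⊤) (M : X.Modules)
    (hM : ∀ W : X.Opens, W ≤ V → Subsingleton Γ(M, W)) (h : IsZero ((Scheme.Modules.pullback j).obj M)) : IsZero M := by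
  have h1 := isIso_unit j V hjV M hM
  have h2 : IsZero ((Scheme.Modules.restrictFunctor j).obj M) :=
    h.of_iso ((Scheme.Modules.restrictFunctorIsoPullback j).app M)
  exact (Functor.map_isZero (Scheme.Modules.pushforward j) h2).of_iso
    (asIso ((Scheme.Modules.restrictAdjunction j).unit.app M))

/-- If the restriction to `V` is zero, sections over opens inside `V` vanish. -/
theorem subsingleton_of_isZero (V : X.Opens) (M : X.Modules) (h : IsZero ((Scheme.Modules.pullback V.ι).obj M))
    (W : X.Opens) (hW : W ≤ V) : Subsingleton Γ(M, W) := by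
  have h2 : IsZero ((Scheme.Modules.restrictFunctor V.ι).obj M) :=
    h.of_iso ((Scheme.Modules.restrictFunctorIsoPullback V.ι).app M)
  have h3 : V.ι ''ᵁ (V.ι ⁻¹ᵁ W) = W := by
    rw [Scheme.Hom.image_preimage_eq_opensRange_inf]
    simpa using hW
  have h4 : Subsingleton Γ(M, V.ι ''ᵁ (V.ι ⁻¹ᵁ W)) := by
    constructor
    intro a b
    have h5 : (𝟙 ((Scheme.Modules.restrictFunctor V.ι).obj M)) = 0 := (IsZero.iff_id_eq_zero _).mp h2
    have h6 := congrArg (fun φ => φ.app (V.ι ⁻¹ᵁ W) (toRestrict (M := M) V.ι (U := V.ι ⁻¹ᵁ W) a)) h5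
    have h7 := congrArg (fun φ => φ.app (V.ι ⁻¹ᵁ W) (toRestrict (M := M) V.ι (U := V.ι ⁻¹ᵁ W) b)) h5
    exact (toRestrict (M := M) V.ι (U := V.ι ⁻¹ᵁ W)).injective (h6.trans h7.symm)
  rw [h3] at h4
  exact h4

/-- Converse of `subsingleton_of_isZero`. -/
theorem isZero_of_subsingleton (V : X.Opens) (M : X.Modules) (h : ∀ W : X.Opens, W ≤ V → Subsingleton Γ(M, W)) :
    IsZero ((Scheme.Modules.pullback V.ι).obj M) := by
  refine IsZero.of_iso ?_ ((Scheme.Modules.restrictFunctorIsoPullback V.ι).symm.app M)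
  rw [IsZero.iff_id_eq_zero]
  apply Scheme.Modules.hom_ext
  intro W
  ext s
  have := h (V.ι ''ᵁ W) (V.ι_image_le W)
  obtain ⟨a, rfl⟩ := (toRestrict (M := M) V.ι (U := W)).surjective s
  apply (toRestrict (M := M) V.ι (U := W)).symm.injective
  exact Subsingleton.elim _ _

end K528.SuppGlue
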