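import Groth.Agent.AbVar.K528.ExtPtDeg
import Groth.Agent.AbVar.K528.SuppGlue
import Groth.Agent.LoccohB.BiAffine
import Groth.Agent.LoccohB.BassCritB
import Groth.Agent.Htor.H255.PullExt
import Groth.Agent.PerfA.FieldSch
import Groth.Agent.PerfA.TildeSupp
import Groth.Agent.CohqA.AffPush
import Groth.Agent.Fdesc.StructMod

/-!
# `Ext^p(O_x, O_X)` for the structure sheaf of a regular closed point

`ext_point`: `X` locally Noetherian, `i : Spec k ⟶ X` a closed immersion with image in an affine open `Spec R`,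
`R` a regular domain of finite dimension, `g` the height of the point: `Ext^p(i_* O, O_X)` is zero for `p ≠ g` and
isomorphic to `i_* O` for `p = g`.
-/

set_option autoImplicit false
universe u

open CategoryTheory CategoryTheory.Limits AlgebraicGeometry TopologicalSpace

attribute [local instance] HasDerivedCategory.standard

namespace K528.ExtPt

open Groth.Agent.LoccohB Groth.Agent.LoccohB.BassCrit Groth.Agent.LoccohB.HomCxHD Groth.Agent.LoccohB.HomCx
  Groth.Agent.LoccohB.InjRep
open Groth.Agent.PerfC.RHomD Groth.Agent.Htor.H255.PullExt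
open Groth.Agent.PerfA.PointHom Groth.Agent.PerfA.FieldSch Groth.Agent.PerfA.TildeSupp
  Groth.Agent.PerfA.PointMod

section Alg

variable {A : Type u} [CommRing A]

theorem hd_rhom (M : Type u) [AddCommGroup M] [Module A M] (ω : Dual.D A) (i : ℤ)
    [DRing.HasRHomCx (M0 (A := A) M)] :
    Nonempty (Dual.HD A ((DRing.RHomCx (M0 (A := A) M)).obj ω) i ≃ₗ[A] (Dual.inD A M ⟶ ω⟦i⟧)) := by
  obtain ⟨I, f, hI, hf⟩ := RHomVal.enoughKInjectives_moduleCat A (DerivedCategory.Q.objPreimage ω)
  have e : ω ≅ DRing.toD I := (DerivedCategory.Q.objObjPreimageIso ω).symm ≪≫ asIso (DerivedCategory.Q.map f)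
  have e1 : (DRing.RHomCx (M0 (A := A) M)).obj ω ≅ DRing.toD (DRing.homCx (M0 (A := A) M) I) :=
    (DRing.RHomCx (M0 (A := A) M)).mapIso e ≪≫ (RHomVal.rhomIso (M0 (A := A) M) I).symm
  have e2 : Dual.HD A ((DRing.RHomCx (M0 (A := A) M)).obj ω) i ≃ₗ[A]
      Dual.HD A (DRing.toD (DRing.homCx (M0 (A := A) M) I)) i :=
    ((DerivedCategory.homologyFunctor (ModuleCat.{u} A) i).mapIso e1).toLinearEquiv
  exact ⟨e2.trans ((hdEquiv _ i).trans ((homologyEquivM0 I M i).trans
    (Linear.homCongr A (Iso.refl _) ((shiftFunctor _ i).mapIso e.symm))))⟩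

/-- `R / ker φ ≅ k`. -/
noncomputable def quotEquiv {R k : Type u} [CommRing R] [CommRing k] (φ : CommRingCat.of R ⟶ CommRingCat.of k)
    (hφ : Function.Surjective φ.hom) :
    (R ⧸ RingHom.ker φ.hom) ≃ₗ[R] (ModuleCat.restrictScalars φ.hom).obj (ModuleCat.of k k) :=
  let L : R →ₗ[R] (ModuleCat.restrictScalars φ.hom).obj (ModuleCat.of k k) :=
    { toFun := fun r => φ.hom r
      map_add' := fun a b => map_add φ.hom a b
      map_smul' := fun a b => map_mul φ.hom a b }
  (Submodule.quotEquivOfEq _ _ (by ext; rfl)).trans (L.quotKerEquivOfSurjective hφ)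

end Alg

section Affine

variable (R : Type u) [CommRing R]

noncomputable def tO : tilde (R := CommRingCat.of R) (ModuleCat.of R R) ≅
    Coh.structureModule (Spec (CommRingCat.of R)) :=
  tildeSelf (R := CommRingCat.of R)

theorem isZero_HD (K : Dual.D R) (p : ℤ) (h : Subsingleton (Dual.HD R K p)) :
    IsZero ((DerivedCategory.homologyFunctor (ModuleCat.{u} R) p).obj K) :=
  @ModuleCat.isZero_of_subsingleton R _ ((DerivedCategory.homologyFunctor (ModuleCat.{u} R) p).obj K) h

/-- The final step: the cohomology sheaves of `M~` for `M ∈ D(R)`. -/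
theorem step (E : DCoh.D (Spec (CommRingCat.of R))) (K : Dual.D R)
    (e2 : E ≅ (DCoh.tildeD (CommRingCat.of R)).obj K) (p : ℤ) :
    (Subsingleton (Dual.HD R K p) → IsZero ((DerivedCategory.homologyFunctor _ p).obj E)) ∧
    ∀ (M : Type u) [AddCommGroup M] [Module R M] (_ : Dual.HD R K p ≃ₗ[R] M),
      Nonempty ((DerivedCategory.homologyFunctor _ p).obj E ≅ tilde (R := CommRingCat.of R) (ModuleCat.of R M)) := by
  refine ⟨fun h => ?_, fun M _ _ e => ?_⟩
  · exact (Functor.map_isZero (tilde.functor (CommRingCat.of R)) (isZero_HD R K p h)).of_iso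
      ((DerivedCategory.homologyFunctor _ p).mapIso e2 ≪≫ HDtilde (R := CommRingCat.of R) K p)
  · let e' : (DerivedCategory.homologyFunctor (ModuleCat.{u} R) p).obj K ≅ ModuleCat.of R M := e.toModuleIso
    exact ⟨(DerivedCategory.homologyFunctor _ p).mapIso e2 ≪≫ HDtilde (R := CommRingCat.of R) K p ≪≫
      (tilde.functor (CommRingCat.of R)).mapIso e'⟩

theorem affine [IsDomain R] [IsNoetherianRing R]
    (hreg : ∀ p : PrimeSpectrum R, IsRegularLocalRing (Localization.AtPrime p.asIdeal))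
    (hdim : ringKrullDim R < ⊤) (m : Ideal R) [m.IsMaximal] (g : ℕ)
    (hg : Order.height (⟨m, inferInstance⟩ : PrimeSpectrum R) = g)
    (F O : (Spec (CommRingCat.of R)).Modules)
    (eF : F ≅ tilde (R := CommRingCat.of R) (ModuleCat.of R (R ⧸ m)))
    (eO : O ≅ tilde (R := CommRingCat.of R) (ModuleCat.of R R)) :
    (∀ p : ℤ, p ≠ g → IsZero ((DerivedCategory.homologyFunctor (Spec (CommRingCat.of R)).Modules p).obj
        ((RH (DerivedCategory.Q.obj (sg F))).obj (DCoh.inD _ O)))) ∧
      Nonempty ((DerivedCategory.homologyFunctor (Spec (CommRingCat.of R)).Modules g).obj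
        ((RH (DerivedCategory.Q.obj (sg F))).obj (DCoh.inD _ O)) ≅ F) := by
  have hD := Groth.Agent.S11185.result R hreg hdim
  have := RHomVal.hasRHomCx (M0 (A := R) (R ⧸ m))
  have eM : DRing.toD (M0 (A := R) (R ⧸ m)) ≅ Dual.inD R (R ⧸ m) := (isoInD (R ⧸ m)).symm
  have hK : ∀ i : ℤ, Module.Finite R (Dual.HD R (DRing.toD (M0 (A := R) (R ⧸ m))) i) := by
    intro i
    by_cases hi : i = 0
    · subst hi
      let e : (DerivedCategory.homologyFunctor (ModuleCat.{u} R) 0).obj (DRing.toD (M0 (A := R) (R ⧸ m))) ≅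
          ModuleCat.of R (R ⧸ m) :=
        (DerivedCategory.homologyFunctor (ModuleCat.{u} R) 0).mapIso eM ≪≫
          (DerivedCategory.singleFunctorCompHomologyFunctorIso (ModuleCat.{u} R) 0).app (ModuleCat.of R (R ⧸ m))
      exact Module.Finite.equiv e.symm.toLinearEquiv
    · have h1 : IsZero ((DerivedCategory.homologyFunctor (ModuleCat.{u} R) i).obj
          (DRing.toD (M0 (A := R) (R ⧸ m)))) := by
        refine IsZero.of_iso ?_ ((DerivedCategory.homologyFunctor (ModuleCat.{u} R) i).mapIso eM)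
        rcases lt_or_gt_of_ne hi with h | h
        · have : (Dual.inD R (R ⧸ m)).IsGE 0 :=
            inferInstanceAs (((DerivedCategory.singleFunctor (ModuleCat.{u} R) 0).obj _).IsGE 0)
          exact DerivedCategory.isZero_of_isGE _ 0 i h
        · have : (Dual.inD R (R ⧸ m)).IsLE 0 :=
            inferInstanceAs (((DerivedCategory.singleFunctor (ModuleCat.{u} R) 0).obj _).IsLE 0)
          exact DerivedCategory.isZero_of_isLE _ 0 i h
      have h2 := ModuleCat.subsingleton_of_isZero h1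
      exact @Module.Finite.of_finite _ _ _ _ _ (@Finite.of_subsingleton _ h2)
  let e : DerivedCategory.Q.obj (sg F) ≅
      (DCoh.tildeD (CommRingCat.of R)).obj (DRing.toD (M0 (A := R) (R ⧸ m))) :=
    (inDIso F).symm ≪≫ (DerivedCategory.singleFunctor _ 0).mapIso eF ≪≫ (tildeInD R (R ⧸ m)).symm ≪≫
      (DCoh.tildeD (CommRingCat.of R)).mapIso eM.symm
  obtain ⟨e1⟩ := BiAffine.nonempty_RH_tilde R (Dual.inD R R) hD (M0 (A := R) (R ⧸ m)) hK e
  let e2 : (RH (DerivedCategory.Q.obj (sg F))).obj (DCoh.inD _ O) ≅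
      (DCoh.tildeD (CommRingCat.of R)).obj ((DRing.RHomCx (M0 (A := R) (R ⧸ m))).obj (Dual.inD R R)) :=
    (RH (DerivedCategory.Q.obj (sg F))).mapIso
      ((DerivedCategory.singleFunctor _ 0).mapIso eO ≪≫ (tildeInD R R).symm) ≪≫ e1
  obtain ⟨h1, ⟨h2⟩⟩ := hom_residue R hreg hdim m g hg
  refine ⟨fun p hp => ?_, ?_⟩
  · obtain ⟨e3⟩ := hd_rhom (A := R) (R ⧸ m) (Dual.inD R R) p
    have := h1 p hp
    exact (step R _ _ e2 p).1 e3.toEquiv.subsingleton
  · obtain ⟨e3⟩ := hd_rhom (A := R) (R ⧸ m) (Dual.inD R R) g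
    obtain ⟨e4⟩ := (step R _ _ e2 g).2 (R ⧸ m) (e3.trans h2)
    exact ⟨e4 ≪≫ eF.symm⟩

end Affine

section Scheme

variable {X : Scheme.{u}}

theorem isCoh_point [IsLocallyNoetherian X] {k : Type u} [Field k] (i : Spec (CommRingCat.of k) ⟶ X)
    [IsClosedImmersion i] :
    Coh.IsCoh ((Scheme.Modules.pushforward i).obj (Coh.structureModule (Spec (CommRingCat.of k)))) := by
  have h := Groth.Agent.Fdesc.StructMod.isCoh_structureModule (Spec (CommRingCat.of k))
  exact ⟨Groth.Agent.CohqA.AffPush.isQCoh_push i _ h.1, Groth.Agent.CohqA.AffPush.isFT_push i _ h.1 h.2⟩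

/-- The complement of the image of a closed immersion. -/
noncomputable def compl {Z : Scheme.{u}} (i : Z ⟶ X) [IsClosedImmersion i] : X.Opens :=
  ⟨(Set.range i)ᶜ, i.isClosedEmbedding.isClosed_range.isOpen_compl⟩

theorem subsingleton_push {Z : Scheme.{u}} (i : Z ⟶ X) [IsClosedImmersion i] (M : Z.Modules)
    (W : X.Opens) (hW : W ≤ compl i) : Subsingleton Γ((Scheme.Modules.pushforward i).obj M, W) := by
  have hb : i ⁻¹ᵁ W = ⊥ := by
    rw [eq_bot_iff]
    intro z hz
    exact (hW hz ⟨z, rfl⟩).elim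
  have h1 : Subsingleton Γ(M, (⊥ : Z.Opens)) := by
    have h2 := isZero_sections_bot M
    exact AddCommGrpCat.subsingleton_of_isZero h2
  change Subsingleton Γ(M, i ⁻¹ᵁ W)
  rw [hb]
  exact h1

theorem subsingleton_ext [IsLocallyNoetherian X] {F : X.Modules} (hF : Coh.IsCoh F) (G : X.Modules) (V : X.Opens)
    (hV : ∀ W : X.Opens, W ≤ V → Subsingleton Γ(F, W)) (p : ℤ) (W : X.Opens) (hW : W ≤ V) :
    Subsingleton Γ((DerivedCategory.homologyFunctor X.Modules p).obj
        ((RH (DerivedCategory.Q.obj (sg F))).obj (DCoh.inD X G)), W) := by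
  refine SuppGlue.subsingleton_of_isZero V _ ?_ W hW
  obtain ⟨e⟩ := nonempty_pull V.ι hF G p
  refine IsZero.of_iso ?_ e
  refine Functor.map_isZero _ (BiAffine.isZero_RH ?_ _)
  exact Functor.map_isZero _ (Functor.map_isZero _ (SuppGlue.isZero_of_subsingleton V F hV))

/-- **`Ext^p(O_x, O_X)`** for a regular closed point `x` of codimension `g`. -/
theorem ext_point [IsLocallyNoetherian X] {k R : Type u} [Field k] [CommRing R] [IsDomain R] [IsNoetherianRing R]
    (hreg : ∀ p : PrimeSpectrum R, IsRegularLocalRing (Localization.AtPrime p.asIdeal))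
    (hdim : ringKrullDim R < ⊤) (i : Spec (CommRingCat.of k) ⟶ X) [IsClosedImmersion i]
    (j : Spec (CommRingCat.of R) ⟶ X) [IsOpenImmersion j] (φ : CommRingCat.of R ⟶ CommRingCat.of k)
    (h : Spec.map φ ≫ j = i) (g : ℕ)
    (hg : Order.height (⟨RingHom.ker φ.hom, RingHom.ker_isPrime _⟩ : PrimeSpectrum R) = g) :
    (∀ p : ℤ, p ≠ g → IsZero ((DerivedCategory.homologyFunctor X.Modules p).obj
        ((RH (DerivedCategory.Q.obj (sg ((Scheme.Modules.pushforward i).obj
          (Coh.structureModule (Spec (CommRingCat.of k))))))).obj (DCoh.inD X (Coh.structureModule X))))) ∧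
      Nonempty ((DerivedCategory.homologyFunctor X.Modules g).obj
        ((RH (DerivedCategory.Q.obj (sg ((Scheme.Modules.pushforward i).obj
          (Coh.structureModule (Spec (CommRingCat.of k))))))).obj (DCoh.inD X (Coh.structureModule X))) ≅
        (Scheme.Modules.pushforward i).obj (Coh.structureModule (Spec (CommRingCat.of k)))) := by
  subst h
  have hci : IsClosedImmersion (Spec.map φ) := IsClosedImmersion.of_comp _ j
  have hφ : Function.Surjective φ.hom := by
    have h1 := (IsClosedImmersion.isAffine_surjective_of_isAffine (Spec.map φ)).2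
    intro x
    obtain ⟨y, hy⟩ := h1 ((Scheme.ΓSpecIso (CommRingCat.of k)).inv.hom x)
    refine ⟨(Scheme.ΓSpecIso (CommRingCat.of R)).hom.hom y, ?_⟩
    have h3 := congrArg (fun f => f.hom y) (Scheme.ΓSpecIso_naturality φ)
    refine h3.symm.trans ?_
    refine (congrArg (Scheme.ΓSpecIso (CommRingCat.of k)).hom.hom hy).trans ?_
    exact congrArg (fun f => f.hom x) (Scheme.ΓSpecIso (CommRingCat.of k)).inv_hom_id
  have hmax : (RingHom.ker φ.hom).IsMaximal := RingHom.ker_isMaximal_of_surjective _ hφ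
  set i := Spec.map φ ≫ j with hi
  let Ok := Coh.structureModule (Spec (CommRingCat.of k))
  let F := (Scheme.Modules.pushforward i).obj Ok
  have hF : Coh.IsCoh F := isCoh_point i
  have hjV : j.opensRange ⊔ compl i = ⊤ := by
    rw [eq_top_iff]
    intro x _
    by_cases hx : x ∈ Set.range i
    · obtain ⟨z, rfl⟩ := hx
      exact Or.inl ⟨Spec.map φ z, by rw [hi]; rfl⟩
    · exact Or.inr hx
  let eF : (Scheme.Modules.pullback j).obj F ≅
      tilde (R := CommRingCat.of R) (ModuleCat.of R (R ⧸ RingHom.ker φ.hom)) :=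
    (Scheme.Modules.restrictFunctorIsoPullback j).symm.app F ≪≫ (pushRestrictIso (Spec.map φ) j).app Ok ≪≫
      (Scheme.Modules.pushforward (Spec.map φ)).mapIso (tO k).symm ≪≫
      (tstep2 φ).symm.app (ModuleCat.of k k) ≪≫
      (tilde.functor (CommRingCat.of R)).mapIso (quotEquiv φ hφ).symm.toModuleIso
  let eO : (Scheme.Modules.pullback j).obj (Coh.structureModule X) ≅
      tilde (R := CommRingCat.of R) (ModuleCat.of R R) :=
    (Scheme.Modules.restrictFunctorIsoPullback j).symm.app _ ≪≫ Scheme.Modules.restrictUnitIso j ≪≫ (tO R).symm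
  obtain ⟨h1, ⟨h2⟩⟩ := affine R hreg hdim (RingHom.ker φ.hom) g hg _ _ eF eO
  have hs := subsingleton_push i Ok
  refine ⟨fun p hp => ?_, ?_⟩
  · obtain ⟨e⟩ := nonempty_pull j hF (Coh.structureModule X) p
    exact SuppGlue.isZero j (compl i) hjV _ (subsingleton_ext hF _ _ hs p) ((h1 p hp).of_iso e)
  · obtain ⟨e⟩ := nonempty_pull j hF (Coh.structureModule X) g
    exact SuppGlue.nonempty_iso j (compl i) hjV _ _ (subsingleton_ext hF _ _ hs g) hs (e ≪≫ h2)

end Scheme

end K528.ExtPt
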