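import Groth.Agent.S11185
import Groth.Agent.S0364
import Groth.Agent.S1722

/-!
# `Hom_{D(A)}(A/m, A[i])` for a regular domain

`hom_residue`: `A` a regular Noetherian domain of finite dimension, `m` a maximal ideal of height `g`: the groups
`Hom(A/m, A[i])` vanish for `i ≠ g` and the one for `i = g` is isomorphic to `A/m`.
-/

set_option autoImplicit false

universe u

open CategoryTheory CategoryTheory.Limits

attribute [local instance] HasDerivedCategory.standard

namespace K528.ExtPt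

theorem delta_eq {A : Type u} [CommRing A] [IsDomain A] (δ : PrimeSpectrum A → ℤ)
    (h0 : δ ⊥ = 0) (h : ∀ p q : PrimeSpectrum A, p ⋖ q → δ p = δ q + 1) (n : ℕ) :
    ∀ p : PrimeSpectrum A, Order.height p = n → δ p = -n := by
  induction n with
  | zero =>
    intro p hp
    have : p = ⊥ := by
      rw [Nat.cast_zero, Order.height_eq_zero, isMin_iff_eq_bot] at hp
      exact hp
    rw [this, h0]
    simp
  | succ n ih =>
    intro p hp
    rw [Nat.cast_succ, Order.height_eq_coe_add_one_iff] at hp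
    obtain ⟨hfin, ⟨q, hq, hqn⟩, hle⟩ := hp
    have hcov : q ⋖ p := by
      refine ⟨hq, fun r hqr hrp => ?_⟩
      have h1 := hle r hrp
      have h2 : Order.height q + 1 ≤ Order.height r := Order.height_add_one_le hqr
      rw [hqn] at h2
      have h3 := h2.trans h1
      exact lt_irrefl _ ((ENat.add_one_le_iff (ENat.coe_ne_top n)).mp h3)
    have h1 := h q p hcov
    rw [ih q hqn] at h1
    push_cast
    linarith

theorem nontrivial_localized_bot (A : Type u) [CommRing A] [IsDomain A] :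
    Nontrivial (LocalizedModule (⊥ : PrimeSpectrum A).asIdeal.primeCompl
      (Dual.inD A (A ⧸ (⊥ : PrimeSpectrum A).asIdeal) ⟶ (Dual.inD A A)⟦(0 : ℤ)⟧)) := by
  have hb : (⊥ : PrimeSpectrum A).asIdeal = ⊥ := rfl
  -- `Hom(A/0, A[0]) ≅ A`
  let e0 : (A ⧸ (⊥ : PrimeSpectrum A).asIdeal) ≃ₗ[A] A :=
    (Submodule.quotEquivOfEq _ _ hb).trans (Submodule.quotEquivOfEqBot (⊥ : Ideal A) rfl)
  let φ : Dual.inD A (A ⧸ (⊥ : PrimeSpectrum A).asIdeal) ⟶ (Dual.inD A A)⟦(0 : ℤ)⟧ :=
    (DerivedCategory.singleFunctor (ModuleCat.{u} A) 0).map (ModuleCat.ofHom e0.toLinearMap) ≫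
      ((shiftFunctorZero (Dual.D A) ℤ).symm.app _).hom
  rw [nontrivial_iff]
  refine ⟨LocalizedModule.mk φ 1, 0, fun h => ?_⟩
  rw [← LocalizedModule.zero_mk 1, LocalizedModule.mk_eq] at h
  obtain ⟨s, hs⟩ := h
  simp only [one_smul, smul_zero] at hs
  have hs' : (s : A) • φ = 0 := hs
  have hs0 : (s : A) ≠ 0 := fun h1 => s.2 (by rw [h1]; exact zero_mem _)
  have h2 : (DerivedCategory.singleFunctor (ModuleCat.{u} A) 0).map
      ((s : A) • ModuleCat.ofHom e0.toLinearMap) = 0 := by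
    rw [Functor.map_smul]
    rw [← cancel_mono ((shiftFunctorZero (Dual.D A) ℤ).symm.app (Dual.inD A A)).hom, Linear.smul_comp, zero_comp]
    exact hs'
  have h3 : (s : A) • ModuleCat.ofHom e0.toLinearMap = 0 :=
    (DerivedCategory.singleFunctor (ModuleCat.{u} A) 0).map_injective (by rw [h2, Functor.map_zero])
  have h4 := congrArg (fun f => f.hom (e0.symm 1)) h3
  have h5 : (s : A) • e0 (e0.symm 1) = 0 := h4
  rw [LinearEquiv.apply_symm_apply, smul_eq_mul, mul_one] at h5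
  exact hs0 h5

/-- `Hom(A/m, A[i])` for a regular domain `A` and a maximal ideal `m` of height `g`. -/
theorem hom_residue (A : Type u) [CommRing A] [IsDomain A] [IsNoetherianRing A]
    (hreg : ∀ p : PrimeSpectrum A, IsRegularLocalRing (Localization.AtPrime p.asIdeal))
    (hdim : ringKrullDim A < ⊤) (m : Ideal A) [m.IsMaximal] (g : ℕ)
    (hg : Order.height (⟨m, inferInstance⟩ : PrimeSpectrum A) = g) :
    (∀ i : ℤ, i ≠ g → Subsingleton (Dual.inD A (A ⧸ m) ⟶ (Dual.inD A A)⟦i⟧)) ∧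
      Nonempty ((Dual.inD A (A ⧸ m) ⟶ (Dual.inD A A)⟦(g : ℤ)⟧) ≃ₗ[A] (A ⧸ m)) := by
  have hD := Groth.Agent.S11185.result A hreg hdim
  obtain ⟨n, h1, ⟨e⟩⟩ := Groth.Agent.S0364.result A _ hD m
  obtain ⟨δ, hδ, hδ'⟩ := Groth.Agent.S1722.result A _ hD
  have h0 : δ ⊥ = 0 := by
    have := (hδ ⊥ 0).mp (nontrivial_localized_bot A)
    linarith
  have hm := delta_eq δ h0 hδ' g _ hg
  have hn : Nontrivial (LocalizedModule (⟨m, inferInstance⟩ : PrimeSpectrum A).asIdeal.primeCompl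
      (Dual.inD A (A ⧸ (⟨m, inferInstance⟩ : PrimeSpectrum A).asIdeal) ⟶ (Dual.inD A A)⟦n⟧)) := by
    rw [nontrivial_iff]
    refine ⟨LocalizedModule.mk (e.symm 1) 1, 0, fun h => ?_⟩
    rw [← LocalizedModule.zero_mk 1, LocalizedModule.mk_eq] at h
    obtain ⟨s, hs⟩ := h
    simp only [one_smul, smul_zero] at hs
    have hs' : (s : A) • e.symm 1 = 0 := hs
    rw [← map_smul, e.symm.map_eq_zero_iff] at hs'
    have h2 : (s : A) • (1 : A ⧸ m) = Ideal.Quotient.mk m (s : A) := by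
      rw [Algebra.smul_def, mul_one]; rfl
    rw [h2, Ideal.Quotient.eq_zero_iff_mem] at hs'
    exact s.2 hs'
  have hn' := (hδ ⟨m, inferInstance⟩ n).mp hn
  rw [hm, neg_neg] at hn'
  subst hn'
  exact ⟨h1, ⟨e⟩⟩

end K528.ExtPt
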