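import Groth.Agent.AbVar.K528.ExtPt
import Mathlib.AlgebraicGeometry.Properties

/-!
# `Ext^p(O_x, O_X)` for a rational point with regular neighbourhood

`ext_of_regular`: `X` integral, locally Noetherian, regular, of finite dimension, `i : Spec k ⟶ X` a closed immersion:
`Ext^p(i_* O, O_X)` is zero for `p ≠ g` and isomorphic to `i_* O` for `p = g`, `g = dim O_{X,x}`.
-/

set_option autoImplicit false
universe u

open CategoryTheory CategoryTheory.Limits AlgebraicGeometry TopologicalSpace

attribute [local instance] HasDerivedCategory.standard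

namespace K528.ExtPt

open Groth.Agent.PerfC.RHomD Groth.Agent.Htor.H255.PullExt

theorem ringKrullDim_stalk (R : CommRingCat.{u}) (p : PrimeSpectrum R) :
    ringKrullDim ((Spec R).presheaf.stalk p) = Order.height p := by
  let k : Algebra ↑R ↑((Spec R).presheaf.stalk p) := StructureSheaf.stalkAlgebra (↑R) p
  have : IsLocalization.AtPrime (↑((Spec R).presheaf.stalk p)) p.asIdeal :=
    StructureSheaf.IsLocalization.to_stalk R p
  rw [IsLocalization.AtPrime.ringKrullDim_eq_height p.asIdeal ((Spec R).presheaf.stalk p)]
  exact congrArg _ (PrimeSpectrum.height_eq_orderHeight p)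

theorem isRegular_localization (R : CommRingCat.{u}) (p : PrimeSpectrum R)
    [IsRegularLocalRing ((Spec R).presheaf.stalk p)] :
    IsRegularLocalRing (Localization.AtPrime p.asIdeal) := by
  let k : Algebra ↑R ↑((Spec R).presheaf.stalk p) := StructureSheaf.stalkAlgebra (↑R) p
  have : IsLocalization.AtPrime (↑((Spec R).presheaf.stalk p)) p.asIdeal :=
    StructureSheaf.IsLocalization.to_stalk R p
  exact IsRegularLocalRing.of_ringEquiv (R := (Spec R).presheaf.stalk p)
    (IsLocalization.algEquiv p.asIdeal.primeCompl ((Spec R).presheaf.stalk p)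
      (Localization.AtPrime p.asIdeal)).toRingEquiv

theorem ext_of_regular (X : Scheme.{u}) [IsIntegral X] [IsLocallyNoetherian X]
    (hreg : ∀ x : X, IsRegularLocalRing (X.presheaf.stalk x)) (hdim : topologicalKrullDim X < ⊤)
    {k : Type u} [Field k] (i : Spec (CommRingCat.of k) ⟶ X) [IsClosedImmersion i] (z : Spec (CommRingCat.of k)) (g : ℕ)
    (hg : ringKrullDim (X.presheaf.stalk (i z)) = g) :
    (∀ p : ℤ, p ≠ g → IsZero ((DerivedCategory.homologyFunctor X.Modules p).obj
        ((RH (DerivedCategory.Q.obj (sg ((Scheme.Modules.pushforward i).obj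
          (Coh.structureModule (Spec (CommRingCat.of k))))))).obj (DCoh.inD X (Coh.structureModule X))))) ∧
      Nonempty ((DerivedCategory.homologyFunctor X.Modules g).obj
        ((RH (DerivedCategory.Q.obj (sg ((Scheme.Modules.pushforward i).obj
          (Coh.structureModule (Spec (CommRingCat.of k))))))).obj (DCoh.inD X (Coh.structureModule X))) ≅
        (Scheme.Modules.pushforward i).obj (Coh.structureModule (Spec (CommRingCat.of k)))) := by
  obtain ⟨R, j, hj, ⟨y, hy⟩, -⟩ := Scheme.exists_affine_mem_range_and_range_subset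
    (show i z ∈ (⊤ : X.Opens) from trivial)
  have hss : Subsingleton (Spec (CommRingCat.of k)) := inferInstanceAs (Subsingleton (PrimeSpectrum k))
  have hsub : Set.range i ⊆ Set.range j := by
    rintro _ ⟨w, rfl⟩
    rw [Subsingleton.elim w z]
    exact ⟨y, hy⟩
  have hne : Nonempty (Spec R) := ⟨y⟩
  have hint : IsIntegral (Spec R) := isIntegral_of_isOpenImmersion j
  have hnoeth : IsLocallyNoetherian (Spec R) := isLocallyNoetherian_of_isOpenImmersion j
  have hRn : IsNoetherianRing R := isNoetherian_Spec.mp {}
  have hRd : IsDomain R := (affine_isIntegral_iff R).mp hint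
  have hregR : ∀ q : Spec R, IsRegularLocalRing ((Spec R).presheaf.stalk q) := fun q =>
    @IsRegularLocalRing.of_ringEquiv _ _ (hreg (j q)) _ _ (asIso (j.stalkMap q)).commRingCatIsoToRingEquiv
  let l := IsOpenImmersion.lift j i hsub
  have hl : l ≫ j = i := IsOpenImmersion.lift_fac j i hsub
  let φ : CommRingCat.of R ⟶ CommRingCat.of k := Spec.preimage l
  have hφ : Spec.map φ = l := Spec.map_preimage l
  have hφj : Spec.map φ ≫ j = i := by rw [hφ, hl]
  let P : PrimeSpectrum R := ⟨RingHom.ker φ.hom, RingHom.ker_isPrime _⟩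
  let P' : Spec R := P
  have hP : Spec.map φ z = P' := by
    have hz : z = (⊥ : PrimeSpectrum k) := Subsingleton.elim _ _
    rw [hz]
    refine PrimeSpectrum.ext ?_
    rfl
  have hjP : j P' = i z := by
    rw [← hP, ← hφj]
    rfl
  refine ext_point (R := R) ?_ ?_ i j φ hφj g ?_
  · intro q
    have := hregR q
    exact isRegular_localization R q
  · refine lt_of_le_of_lt ?_ hdim
    rw [← PrimeSpectrum.topologicalKrullDim_eq_ringKrullDim]
    exact j.isOpenEmbedding.isInducing.topologicalKrullDim_le
  · have h1 := ringKrullDim_stalk R P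
    have h2 : ringKrullDim ((Spec R).presheaf.stalk P') = g := by
      rw [← hg, ← hjP]
      exact (ringKrullDim_eq_of_ringEquiv (asIso (j.stalkMap P')).commRingCatIsoToRingEquiv).symm
    have h3 : ((Order.height P : ℕ∞) : WithBot ℕ∞) = ((g : ℕ∞) : WithBot ℕ∞) := h1.symm.trans h2
    exact WithBot.coe_injective h3

end K528.ExtPt
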