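import Groth.Agent.Ega3B.LimInv
import Groth.Agent.AbVar.K520.Frob

/-!
# The Frobenius pullback of an invertible module is its `q`-th tensor power

`exists_pullback_iso_pow`: for `F : X ⟶ X` with `IsFrob q F` (identity on points, `q`-th power on sections) and `L`
invertible, `F^* L ≅ L^{⊗ q}`.
-/

set_option autoImplicit false
universe u

open CategoryTheory AlgebraicGeometry Limits Opposite TopologicalSpace

namespace K528.FrobPull

open Groth.Agent.Fdesc.LocGen Groth.Agent.Ega3B.LimInv Groth.Agent.Ega2.CocycleIso K520.Frob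

variable {X : Scheme.{u}}

theorem pl_eq_pow {q : ℕ} {F : X ⟶ X} (hF : IsFrob q F) {U W : X.Opens} (h : W ≤ F ⁻¹ᵁ U) (hW : W ≤ U)
    (s : Γ(X, U)) : pl F h s = ores hW s ^ q :=
  hF.appLE U W h hW s

/-- The Frobenius pullback of an invertible module is its `q`-th tensor power. -/
theorem nonempty_pullback_iso_pow {q : ℕ} {F : X ⟶ X} (hF : IsFrob q F) (L : X.Modules) (hL : PicF.IsInvertible L) :
    Nonempty ((Scheme.Modules.pullback F).obj L ≅ CohB1.tensorPow L q) := by
  rw [isInvertible_iff] at hL
  choose U e hxU he using hL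
  have key : Compat U (fun x => psec F (hF.le (U x)) (e x)) (fun x => pow (e x) q) → 
      Nonempty ((Scheme.Modules.pullback F).obj L ≅ CohB1.tensorPow L q) := fun hc =>
    ⟨(exists_iso (fun x => ⟨x, hxU x⟩) (fun x => isGen_psec F _ (he x)) (fun x => (he x).pow q) hc).choose⟩
  apply key
  intro x y W hx hy g hg
  obtain ⟨t, ht⟩ := ((he y).res hy).exists_eq (res L hx (e x))
  have h1 : psec F (hF.le W) (res L hx (e x)) = psec F (hF.le W) (t • res L hy (e y)) := by rw [ht]
  rw [psec_smul, psec_res, psec_res, pl_eq_pow hF _ le_rfl, ores_refl] at h1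
  rw [res_psec, res_psec] at hg
  rw [hg] at h1
  have h2 : g = t ^ q := (isGen_psec (W := W) F (hy.trans (hF.le (U y))) (he y)).ext h1
  rw [res_pow, res_pow, ht, smul_pow, h2]

end K528.FrobPull
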