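import Mathlib.FieldTheory.Minpoly.Field
import Mathlib.RingTheory.Polynomial.GaussLemma
import Mathlib.RingTheory.IntegralClosure.IntegrallyClosed
import Mathlib.RingTheory.TensorProduct.Basic
import Mathlib.RingTheory.Flat.TorsionFree
import Mathlib.RingTheory.Flat.Domain
import Mathlib.Data.Int.AbsoluteValue

/-!
# Minimal polynomials over `ℤ`

`exists_monic`: an element `a` of a ring which is a finitely generated torsion-free abelian group is killed by a monic
`P ∈ ℤ[X]` such that `1, a, …, a^(deg P - 1)` are linearly independent.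
`minpoly_eq`: a criterion for `minpoly R T` to be the image of a polynomial over `ℤ`.
-/

set_option autoImplicit false

open Polynomial
open scoped TensorProduct

namespace K528.IntMin

theorem minpoly_eq {R E : Type*} [CommRing R] [Nontrivial R] [Ring E] [Algebra R E] (P : ℤ[X]) (hP : P.Monic) (T : E)
    (h0 : aeval T P = 0) (hli : LinearIndependent R (fun i : Fin P.natDegree => T ^ (i : ℕ))) :
    minpoly R T = P.map (Int.castRingHom R) := by
  symm
  apply minpoly.unique' R T (hP.map _)
  · rw [← h0, aeval_def, aeval_def, eval₂_map]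
    congr 1
    exact Subsingleton.elim _ _
  · intro q hq
    by_cases hz : aeval T q = 0
    · left
      rw [degree_map_eq_of_leadingCoeff_ne_zero _ (by rw [hP.leadingCoeff, map_one]; exact one_ne_zero)] at hq
      by_cases hq0 : q = 0
      · exact hq0
      have hq' : q.natDegree < P.natDegree := by
        rw [degree_eq_natDegree hP.ne_zero, degree_eq_natDegree hq0] at hq
        exact_mod_cast hq
      rw [aeval_eq_sum_range' hq', Finset.sum_range] at hz
      have h1 := Fintype.linearIndependent_iff.mp hli (fun i => q.coeff i) hz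
      ext n
      rw [coeff_zero]
      by_cases hn : n < P.natDegree
      · exact h1 ⟨n, hn⟩
      · exact coeff_eq_zero_of_natDegree_lt (by omega)
    · right
      exact hz

theorem exists_monic {E : Type*} [Ring E] [Module.Finite ℤ E] [IsAddTorsionFree E] (a : E) :
    ∃ P : ℤ[X], P.Monic ∧ aeval a P = 0 ∧ LinearIndependent ℤ (fun i : Fin P.natDegree => a ^ (i : ℕ)) := by
  let j : E →ₐ[ℤ] ℚ ⊗[ℤ] E := Algebra.TensorProduct.includeRight
  have hj : Function.Injective j := by
    have : Module.IsTorsionFree ℤ E := inferInstance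
    exact Algebra.TensorProduct.includeRight_injective (algebraMap ℤ ℚ).injective_int
  have hint : IsIntegral ℤ a := IsIntegral.of_finite ℤ a
  have hintQ : IsIntegral ℚ (j a) := (hint.map j).tower_top
  obtain ⟨P₀, hP₀, hP₀'⟩ := hint
  have hdvd : minpoly ℚ (j a) ∣ P₀.map (algebraMap ℤ ℚ) := by
    apply minpoly.dvd
    rw [aeval_map_algebraMap, aeval_algHom_apply]
    rw [← aeval_def] at hP₀'
    rw [hP₀', map_zero]
  obtain ⟨P, hPm⟩ := IsIntegrallyClosed.eq_map_mul_C_of_dvd ℚ hP₀ hdvd
  rw [(minpoly.monic hintQ).leadingCoeff, C_1, mul_one] at hPm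
  have hmonic : P.Monic := by
    have h1 : (P.map (algebraMap ℤ ℚ)).Monic := by rw [hPm]; exact minpoly.monic hintQ
    exact Function.Injective.monic_map_iff (algebraMap ℤ ℚ).injective_int |>.mpr h1
  refine ⟨P, hmonic, ?_, ?_⟩
  · apply hj
    rw [map_zero, ← aeval_algHom_apply, ← aeval_map_algebraMap ℚ, hPm, minpoly.aeval]
  · rw [Fintype.linearIndependent_iff]
    intro c hc i
    let Q : ℤ[X] := ∑ n : Fin P.natDegree, C (c n) * X ^ (n : ℕ)
    have hQ : aeval a Q = 0 := by
      rw [← hc]
      simp only [Q, map_sum, map_mul, aeval_C, map_pow, aeval_X]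
      refine Finset.sum_congr rfl fun n _ => ?_
      rw [Algebra.smul_def]
    have hQd : Q.degree < P.degree := by
      refine lt_of_lt_of_le ?_ (degree_eq_natDegree hmonic.ne_zero).ge
      refine (degree_sum_fin_lt c)
    have hQ0 : Q.map (algebraMap ℤ ℚ) = 0 := by
      by_contra hne
      have h2 := minpoly.degree_le_of_ne_zero ℚ (j a) hne (by
        rw [aeval_map_algebraMap, aeval_algHom_apply, hQ, map_zero])
      rw [← hPm, degree_map_eq_of_injective (algebraMap ℤ ℚ).injective_int,
        degree_map_eq_of_injective (algebraMap ℤ ℚ).injective_int] at h2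
      exact absurd hQd (not_lt.mpr h2)
    have hQ0' : Q = 0 := (Polynomial.map_eq_zero_iff (algebraMap ℤ ℚ).injective_int).mp hQ0
    have h3 : Q.coeff (i : ℕ) = c i := by
      simp only [Q, finsetSum_coeff, coeff_C_mul, coeff_X_pow]
      rw [Finset.sum_eq_single i]
      · simp
      · intro n _ hn
        rw [if_neg (fun h => hn (Fin.ext h.symm)), mul_zero]
      · intro h; exact absurd (Finset.mem_univ _) h
    rw [← h3, hQ0', coeff_zero]

end K528.IntMin
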