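import Groth.Agent.Ega3A.ExtLim
import Groth.Agent.Coh.K415.TowerML
import Mathlib.RingTheory.Artinian.Module

/-!
# `Ext^{j+1}(E, lim F) → ∏ Ext^{j+1}(E, F_n)` is injective when `(Ext^j(E, F_n))` is Mittag-Leffler
-/

set_option autoImplicit false
universe u v w

namespace K528.LimAbs

section Art

/-- Towers of Artinian modules are Mittag-Leffler. -/
theorem ml_of_artinian (k : Type u) [Ring k] (A : ℕ → Type w) [∀ n, AddCommGroup (A n)]
    [∀ n, Module k (A n)] (T : ∀ (n m : ℕ), n ≤ m → (A m →ₗ[k] A n))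
    (hT : ∀ (n m l : ℕ) (h : n ≤ m) (h' : m ≤ l) (a : A l), T n m h (T m l h' a) = T n l (h.trans h') a)
    (n : ℕ) [IsArtinian k (A n)] :
    ∃ (m : ℕ) (h : n ≤ m), ∀ (m' : ℕ) (h' : m ≤ m') (a : A m),
      ∃ b : A m', T n m' (h.trans h') b = T n m h a := by
  let f : ℕ →o (Submodule k (A n))ᵒᵈ :=
    { toFun := fun i ↦ OrderDual.toDual (LinearMap.range (T n (n + i) (Nat.le_add_right n i)))
      monotone' := by
        intro a b hab
        change LinearMap.range (T n (n + b) _) ≤ LinearMap.range (T n (n + a) _)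
        rintro _ ⟨y, rfl⟩
        exact ⟨T (n + a) (n + b) (Nat.add_le_add_left hab n) y, hT _ _ _ _ _ _⟩ }
  obtain ⟨i, hi⟩ := IsArtinian.monotone_stabilizes f
  refine ⟨n + i, Nat.le_add_right _ _, fun m' hm' a ↦ ?_⟩
  obtain ⟨l, rfl⟩ := Nat.exists_eq_add_of_le ((Nat.le_add_right n i).trans hm')
  have h1 : LinearMap.range (T n (n + i) (Nat.le_add_right n i)) =
      LinearMap.range (T n (n + l) (Nat.le_add_right n l)) := hi l (Nat.le_of_add_le_add_left hm')
  have h2 : T n (n + i) (Nat.le_add_right n i) a ∈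
      LinearMap.range (T n (n + i) (Nat.le_add_right n i)) := ⟨a, rfl⟩
  rw [h1] at h2
  exact h2

end Art

open CategoryTheory CategoryTheory.Limits CategoryTheory.Abelian Opposite Groth.Agent K415

variable {C : Type u} [Category.{v} C] [Abelian C] (F : ℕᵒᵖ ⥤ C)

/-- Transition maps. -/
abbrev tr {n m : ℕ} (h : n ≤ m) : F.obj (op m) ⟶ F.obj (op n) := F.map (homOfLE h).op

variable [HasExt.{w} C] (E : C)

/-- Transition maps on `Ext`, with junk value `0`. -/
noncomputable def aT (j n m : ℕ) : Ext E (F.obj (op m)) j →+ Ext E (F.obj (op n)) j :=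
  if h : n ≤ m then (Ext.mk₀ (tr F h)).postcomp E (add_zero j) else 0

lemma aT_apply (j : ℕ) {n m : ℕ} (h : n ≤ m) (a : Ext E (F.obj (op m)) j) :
    aT F E j n m a = a.comp (Ext.mk₀ (tr F h)) (add_zero j) := by
  rw [aT, dif_pos h]
  rfl

lemma aT_self (j n : ℕ) (a : Ext E (F.obj (op n)) j) : aT F E j n n a = a := by
  have h : tr F (le_refl n) = 𝟙 _ := F.map_id _
  rw [aT_apply F E j le_rfl, h, Ext.comp_mk₀_id]

lemma aT_comp (j n m l : ℕ) (h : n ≤ m) (h' : m ≤ l) (a : Ext E (F.obj (op l)) j) :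
    aT F E j n m (aT F E j m l a) = aT F E j n l a := by
  have h1 : tr F h' ≫ tr F h = tr F (h.trans h') := (F.map_comp _ _).symm
  rw [aT_apply F E j h, aT_apply F E j h', aT_apply F E j (h.trans h'), ← h1,
    Ext.comp_assoc_of_third_deg_zero, Ext.mk₀_comp_mk₀]

variable [HasLimit F] [HasProduct (fun k : ℕ => F.obj (op k))]

theorem ext_eq_zero (j : ℕ) (hD : Epi (Ega3A.ExtLim.D F))
    (hb : Function.Bijective (fun (x : Ext E (∏ᶜ fun k : ℕ => F.obj (op k)) j) (k : ℕ) =>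
      x.comp (Ext.mk₀ (Pi.π (fun k : ℕ => F.obj (op k)) k)) (add_zero j)))
    (hb' : Function.Injective (fun (x : Ext E (∏ᶜ fun k : ℕ => F.obj (op k)) (j + 1)) (k : ℕ) =>
      x.comp (Ext.mk₀ (Pi.π (fun k : ℕ => F.obj (op k)) k)) (add_zero (j + 1))))
    (hml : ∀ n : ℕ, ∃ (m : ℕ) (h : n ≤ m), ∀ (m' : ℕ) (h' : m ≤ m') (a : Ext E (F.obj (op m)) j),
      ∃ b : Ext E (F.obj (op m')) j, b.comp (Ext.mk₀ (tr F (h.trans h'))) (add_zero j) =
        a.comp (Ext.mk₀ (tr F h)) (add_zero j))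
    (η : Ext E (limit F) (j + 1))
    (hη : ∀ k : ℕ, η.comp (Ext.mk₀ (limit.π F (op k))) (add_zero (j + 1)) = 0) : η = 0 := by
  refine Ega3A.ExtLim.ext_eq_zero F E j hD hb hb' (fun t => ?_) η hη
  obtain ⟨x, hx⟩ := TowerML.exists_solution (aT F E j) (aT_self F E j) (aT_comp F E j)
    (fun n => by
      obtain ⟨m, h, h1⟩ := hml n
      refine ⟨m, h, fun m' h' a => ?_⟩
      obtain ⟨b, hb⟩ := h1 m' h' a
      exact ⟨b, by rw [aT_apply F E j h, aT_apply F E j (h.trans h'), hb]⟩) t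
  refine ⟨x, fun n ↦ ?_⟩
  have h2 := hx n
  rw [aT_apply F E j (Nat.le_succ n)] at h2
  exact h2

end K528.LimAbs
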