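import Groth.Agent.Coh.K415.TowerTfae
import Groth.Agent.AbVar.K528.LimAbs
import Groth.Agent.Ega3A.SheafSeq
import Groth.Agent.CohqB.HLin
import Groth.Agent.PerfA.AffVan
import Groth.Agent.S0002

/-!
# Cohomology of the limit of a Mittag-Leffler tower of coherent modules on a proper scheme

A class of positive degree which vanishes in the cohomology of every member of the tower is zero.
-/

set_option autoImplicit false
universe u
open CategoryTheory CategoryTheory.Limits AlgebraicGeometry Opposite TopologicalSpace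

namespace K528.LimInj

open K415 Groth.Agent

section Abs

variable {X : TopCat.{u}} (F : ℕᵒᵖ ⥤ CohTop.Ab X)

/-- Transition maps on sections, with junk value `0`. -/
noncomputable def sT (U : Opens X) (n m : ℕ) :
    (F.obj (op m)).obj.obj (op U) →+ (F.obj (op n)).obj.obj (op U) :=
  if h : n ≤ m then ((F.map (homOfLE h).op).hom.app (op U)).hom else 0

lemma sT_apply (U : Opens X) {n m : ℕ} (h : n ≤ m) (a : (F.obj (op m)).obj.obj (op U)) :
    sT F U n m a = ((F.map (homOfLE h).op).hom.app (op U)).hom a := by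
  rw [sT, dif_pos h]

lemma sT_self (U : Opens X) (n : ℕ) (a : (F.obj (op n)).obj.obj (op U)) : sT F U n n a = a := by
  have h : F.map (homOfLE (le_refl n)).op = 𝟙 _ := F.map_id _
  rw [sT_apply F U le_rfl, h]
  rfl

lemma sT_comp (U : Opens X) (n m l : ℕ) (h : n ≤ m) (h' : m ≤ l)
    (a : (F.obj (op l)).obj.obj (op U)) : sT F U n m (sT F U m l a) = sT F U n l a := by
  have h1 : F.map (homOfLE h').op ≫ F.map (homOfLE h).op = F.map (homOfLE (h.trans h')).op :=
    (F.map_comp _ _).symm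
  rw [sT_apply F U h, sT_apply F U h', sT_apply F U (h.trans h'), ← h1]
  rfl

theorem epi_D {B : Set (Opens X)} (hB : Opens.IsBasis B)
    (hml : ∀ U ∈ B, ∀ n : ℕ, ∃ (m : ℕ) (h : n ≤ m), ∀ (m' : ℕ) (h' : m ≤ m')
      (a : (F.obj (op m)).obj.obj (op U)), ∃ b : (F.obj (op m')).obj.obj (op U),
        ((F.map (homOfLE (h.trans h')).op).hom.app (op U)).hom b =
          ((F.map (homOfLE h).op).hom.app (op U)).hom a) :
    Epi (Ega3A.ExtLim.D F) := by
  refine Ega3A.SheafSeq.epi_of_surjective_on_basis hB _ fun U hU t ↦ ?_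
  let t' : ∀ n : ℕ, (F.obj (op n)).obj.obj (op U) := fun n =>
    ((Pi.π (fun k : ℕ => F.obj (op k)) n).hom.app (op U)).hom t
  obtain ⟨x, hx⟩ := TowerML.exists_solution (sT F U) (sT_self F U) (sT_comp F U)
      (fun n => by
        obtain ⟨m, h, h1⟩ := hml U hU n
        refine ⟨m, h, fun m' h' a => ?_⟩
        obtain ⟨b, hb⟩ := h1 m' h' a
        exact ⟨b, by rw [sT_apply F U h, sT_apply F U (h.trans h'), hb]⟩) t'
  obtain ⟨z, hz⟩ := Ega3A.SheafSeq.exists_section_prod (fun k : ℕ => F.obj (op k)) U x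
  refine ⟨z, Ega3A.SheafSeq.section_prod_ext _ _ _ _ fun k ↦ ?_⟩
  have h2 : ((Pi.π (fun k : ℕ => F.obj (op k)) k).hom.app (op U)).hom
      (((Ega3A.ExtLim.D F).hom.app (op U)).hom z) =
      ((Pi.π (fun k : ℕ => F.obj (op k)) k).hom.app (op U)).hom z -
      ((Ega3A.ExtLim.tr F k).hom.app (op U)).hom
        (((Pi.π (fun k : ℕ => F.obj (op k)) (k + 1)).hom.app (op U)).hom z) :=
    congrArg (fun g => (g.hom.app (op U)).hom z) (Ega3A.ExtLim.D_π F k)
  rw [h2, hz, hz]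
  have h3 := hx k
  rw [sT_apply F U (Nat.le_succ k)] at h3
  exact h3

end Abs


open K415.TowerSheaf CohqB.HLin

variable {X : Scheme.{u}}

theorem epi_D_modules (G : ℕᵒᵖ ⥤ X.Modules) (hG : ∀ n : ℕ, Coh.IsQCoh (G.obj (op n))) (hML : IsML G) :
    Epi (Ega3A.ExtLim.D (G ⋙ toAbF X)) := by
  refine epi_D (X := X.toTopCat) (G ⋙ toAbF X) (B := {U : Opens X.toTopCat | IsAffineOpen (X := X) U})
    X.isBasis_affineOpens fun U hU n => ?_
  obtain ⟨m, h, h1⟩ := secT_ml G hG hML hU n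
  refine ⟨m, h, fun m' h' a => ?_⟩
  obtain ⟨b, hb⟩ := h1 m' h' a
  exact ⟨b, (secT_apply G U (h.trans h') b).symm.trans (hb.trans (secT_apply G U h a))⟩

/-- The product of the cohomology groups. -/
theorem bij (G : ℕᵒᵖ ⥤ X.Modules) (hG : ∀ n : ℕ, Coh.IsQCoh (G.obj (op n))) (j : ℕ) :
    Function.Bijective (fun (x : HX X (∏ᶜ fun k : ℕ => (G ⋙ toAbF X).obj (op k)) j) (k : ℕ) =>
      mapX (Pi.π (fun k : ℕ => (G ⋙ toAbF X).obj (op k)) k) j x) :=
  Ega3A.SheafSeq.ext_prod_bijective (X := X.toTopCat)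
    (B := {U : Opens X.toTopCat | IsAffineOpen (X := X) U}) X.isBasis_affineOpens (LX X) j
    (fun k : ℕ => (G ⋙ toAbF X).obj (op k)) (fun n U hU i =>
      PerfA.AffVan.subsingleton_HU (G.obj (op n)) (hG _) U hU i)

theorem ml (G : ℕᵒᵖ ⥤ X.Modules) (hG : ∀ n : ℕᵒᵖ, Coh.IsCoh (G.obj n))
    (k : Type u) [Field k] [X.Over (Spec (CommRingCat.of k))]
    [IsProper (X ↘ Spec (CommRingCat.of k))] (j n : ℕ) :
    ∃ (m : ℕ) (h : n ≤ m), ∀ (m' : ℕ) (h' : m ≤ m') (a : Coh.HH X (G.obj (op m)) j),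
      ∃ b : Coh.HH X (G.obj (op m')) j, mapH (G.map (homOfLE (h.trans h')).op) j b =
        mapH (G.map (homOfLE h).op) j a := by
  have hfin := S0002.result k X (G.obj (op n)) (hG _) j
  have hart : IsArtinian k (Coh.HH X (G.obj (op n)) j) := inferInstance
  exact LimAbs.ml_of_artinian k (fun n => Coh.HH X (G.obj (op n)) j)
    (fun n m h => HHmapA k (G.map (homOfLE h).op) j)
    (fun n m l h h' a => by
      change mapH _ j (mapH _ j a) = mapH _ j a
      rw [← mapH_comp, ← Functor.map_comp]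
      rfl) n

/-- The injectivity. -/
theorem hx_eq_zero (G : ℕᵒᵖ ⥤ X.Modules) (hG : ∀ n : ℕᵒᵖ, Coh.IsCoh (G.obj n)) (hML : IsML G)
    (k : Type u) [Field k] [X.Over (Spec (CommRingCat.of k))]
    [IsProper (X ↘ Spec (CommRingCat.of k))] (j : ℕ)
    (c : HX X (limit (G ⋙ toAbF X)) (j + 1))
    (hc : ∀ n : ℕ, mapX (limit.π (G ⋙ toAbF X) (op n)) (j + 1) c = 0) : c = 0 :=
  @LimAbs.ext_eq_zero (AbSh X) _ _ (G ⋙ toAbF X) (hE X) (LX X) _ _ j
    (epi_D_modules G (fun n ↦ (hG _).1) hML) (bij G (fun n ↦ (hG _).1) j)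
    (bij G (fun n ↦ (hG _).1) (j + 1)).1 (ml G hG k j) c hc

end K528.LimInj
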