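import Groth.Agent.AbVar.K528.LimInj
import Groth.Agent.Dcoh.DualFLF
import Groth.Agent.FormalB.ToSheafLimits
import Groth.Agent.PerfA.CohSerre
import Groth.Agent.S2297

/-!
# Cohomology of `(lim Ω) ⊗ V` for a Mittag-Leffler tower of coherent modules and `V` dualizable
-/

set_option autoImplicit false
universe u v u' v'
open CategoryTheory CategoryTheory.Limits MonoidalCategory AlgebraicGeometry Opposite TopologicalSpace

namespace K528.LimTens

open K415 K415.TowerSheaf Groth.Agent Groth.Agent.CohqB.HLin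
open scoped Groth.Agent.Dcoh.MonCat

section Image

variable {C : Type u} [Category.{v} C] [Abelian C] {D : Type u'} [Category.{v'} D] [Abelian D]

theorem imageSubobject_epi_mono {X Y Z : C} (e : X ⟶ Y) [Epi e] (m : Y ⟶ Z) [Mono m] :
    imageSubobject (e ≫ m) = Subobject.mk m := by
  have := strongEpi_of_epi e
  let i := image.isoStrongEpiMono e m rfl
  refine le_antisymm ?_ ?_
  · refine imageSubobject_le_mk _ _ e rfl
  · refine Subobject.mk_le_of_comm (i.hom ≫ (imageSubobjectIso (e ≫ m)).inv) ?_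
    rw [Category.assoc, imageSubobject_arrow']
    exact image.isoStrongEpiMono_hom_comp_ι e m rfl

theorem imageSubobject_map (T : C ⥤ D) [T.PreservesMonomorphisms] [T.PreservesEpimorphisms]
    {X Z : C} (f : X ⟶ Z) :
    imageSubobject (T.map f) = Subobject.mk (T.map (imageSubobject f).arrow) := by
  have h1 : T.map f = T.map (factorThruImageSubobject f) ≫ T.map (imageSubobject f).arrow := by
    rw [← T.map_comp, imageSubobject_arrow_comp]
  rw [h1]
  exact imageSubobject_epi_mono _ _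

theorem imageSubobject_map_eq (T : C ⥤ D) [T.PreservesMonomorphisms] [T.PreservesEpimorphisms]
    {X Y Z : C} (f : X ⟶ Z) (g : Y ⟶ Z) (h : imageSubobject f = imageSubobject g) :
    imageSubobject (T.map f) = imageSubobject (T.map g) := by
  rw [imageSubobject_map T f, imageSubobject_map T g, h]

end Image

variable {X : Scheme.{u}}

theorem isML_comp (G : ℕᵒᵖ ⥤ X.Modules) (hML : IsML G) (T : X.Modules ⥤ X.Modules)
    [T.PreservesMonomorphisms] [T.PreservesEpimorphisms] : IsML (G ⋙ T) := by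
  intro n
  obtain ⟨m, hm, h⟩ := hML n
  exact ⟨m, hm, fun m' hm' => imageSubobject_map_eq T _ _ (h m' hm')⟩

theorem isCoh_tensor {M V : X.Modules} (hM : Coh.IsCoh M) (hV : FlatMod.IsFinLocFree V) :
    Coh.IsCoh (CohB1.tensorMod M V) := by
  have h1 := PerfA.CohSerre.isCoh_of_isFinLocFree hV
  have h2 : Coh.IsQCoh M := hM.1
  have h3 : Coh.IsQCoh V := h1.1
  exact ⟨(S2297.result M V).1, (S2297.result M V).2 hM.2 h1.2⟩

/-- The statement of `eq_zero` with the functor `tensorRight V ⋙ toAbF X`. -/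
theorem eq_zero' (k : Type u) [Field k] [X.Over (Spec (CommRingCat.of k))]
    [IsProper (X ↘ Spec (CommRingCat.of k))]
    (G : ℕᵒᵖ ⥤ X.Modules) (hG : ∀ n : ℕᵒᵖ, Coh.IsCoh (G.obj n)) (hML : IsML G)
    {E V : X.Modules} [ExactPairing E V] (hV : FlatMod.IsFinLocFree V) (j : ℕ)
    (c : HX X ((tensorRight V ⋙ toAbF X).obj (limit G)) (j + 1))
    (hc : ∀ n : ℕ, mapX ((tensorRight V ⋙ toAbF X).map (limit.π G (op n))) (j + 1) c = 0) :
    c = 0 := by
  have hT1 : (tensorRight V).IsRightAdjoint := (tensorRightAdjunction E V).isRightAdjoint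
  have hT2 : (tensorRight V).IsLeftAdjoint := inferInstance
  have hlim : PreservesLimitsOfShape ℕᵒᵖ (tensorRight V) := inferInstance
  have hmono : (tensorRight V).PreservesMonomorphisms := inferInstance
  have hepi : (tensorRight V).PreservesEpimorphisms := inferInstance
  have hts : PreservesLimitsOfShape ℕᵒᵖ (toAbF X) :=
    FormalB.ToSheafLimits.preservesLimitsOfShape_toSheaf ℕᵒᵖ
  have hR : PreservesLimitsOfShape ℕᵒᵖ (tensorRight V ⋙ toAbF X) := inferInstance
  let i : (tensorRight V ⋙ toAbF X).obj (limit G) ≅ limit ((G ⋙ tensorRight V) ⋙ toAbF X) :=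
    preservesLimitIso (tensorRight V ⋙ toAbF X) G
  have hi : ∀ n : ℕᵒᵖ, i.hom ≫ limit.π ((G ⋙ tensorRight V) ⋙ toAbF X) n =
      (tensorRight V ⋙ toAbF X).map (limit.π G n) :=
    fun n => preservesLimitIso_hom_π (tensorRight V ⋙ toAbF X) G n
  have h1 : mapX i.hom (j + 1) c = 0 := by
    refine LimInj.hx_eq_zero (G ⋙ tensorRight V) (fun n => isCoh_tensor (hG n) hV)
      (isML_comp G hML (tensorRight V)) k j _ fun n => ?_
    refine (mapX_comp _ _ _ _).symm.trans ?_
    rw [hi]
    exact hc n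
  have h2 : mapX i.inv (j + 1) (mapX i.hom (j + 1) c) = c := by
    rw [← mapX_comp, i.hom_inv_id, mapX_id]
  rw [← h2, h1, map_zero]

/-- **Injectivity of `H^j((lim G) ⊗ V) → ∏ H^j(G_e ⊗ V)`** for `j > 0`. -/
theorem eq_zero (k : Type u) [Field k] [X.Over (Spec (CommRingCat.of k))]
    [IsProper (X ↘ Spec (CommRingCat.of k))]
    (G : ℕᵒᵖ ⥤ X.Modules) (hG : ∀ n : ℕᵒᵖ, Coh.IsCoh (G.obj n)) (hML : IsML G)
    {E V : X.Modules} [ExactPairing E V] (hV : FlatMod.IsFinLocFree V) (j : ℕ)
    (c : HX X ((toAbF X).obj ((DCoh.tensorBi.obj (limit G)).obj V)) (j + 1))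
    (hc : ∀ e : ℕ, mapX ((toAbF X).map ((DCoh.tensorBi.map (limit.π G (op e))).app V)) (j + 1) c = 0) :
    c = 0 :=
  eq_zero' k G hG hML (E := E) hV j c hc

end K528.LimTens
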