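import Groth.Agent.Sga3B.TorusBc
import Groth.Agent.Books.AlgPts
import Mathlib.AlgebraicGeometry.AffineSpace

/-!
# Morphisms from the affine line over an algebraically closed field to tori are constant

`Ln Ω` is `Spec Ω[X]` over `Spec Ω` (`MvPolynomial PUnit Ω`); for `j : Spec Ω ⟶ Spec k`, `Lk j`, `Ωk j` are the same
over `Spec k`, `pr`, `z`, `v c` the structure map, the zero section and the point `c`.
-/

set_option autoImplicit false
universe u
open CategoryTheory CategoryTheory.Limits MonoidalCategory CartesianMonoidalCategory MonObj AlgebraicGeometry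

namespace K528.LineConst

section

variable (Ω : Type u) [Field Ω]

/-- The affine line over `Ω`. -/
noncomputable abbrev Ln : Over (Spec (CommRingCat.of Ω)) :=
  Over.mk (Spec.map (CommRingCat.ofHom (algebraMap Ω (MvPolynomial PUnit.{u+1} Ω))))

variable {Ω}

/-- The point `c` of the affine line. -/
noncomputable def pnt (c : Ω) : Spec (CommRingCat.of Ω) ⟶ (Ln Ω).left :=
  Spec.map (CommRingCat.ofHom (MvPolynomial.aeval (R := Ω) (fun _ : PUnit.{u+1} => c)).toRingHom)

@[reassoc]
theorem pnt_hom (c : Ω) : pnt c ≫ (Ln Ω).hom = 𝟙 _ := by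
  change Spec.map _ ≫ Spec.map _ = _
  rw [← Spec.map_comp, ← CommRingCat.ofHom_comp, ← Spec.map_id]
  congr 1
  ext x
  change MvPolynomial.aeval (R := Ω) (fun _ : PUnit.{u+1} => c) (MvPolynomial.C x) = x
  simp

instance irreducibleSpace_Ln : IrreducibleSpace ↥(Ln Ω).left := by
  change IrreducibleSpace (PrimeSpectrum _)
  infer_instance

theorem unit_const {p : MvPolynomial PUnit.{u+1} Ω} (hp : IsUnit p) :
    MvPolynomial.C (MvPolynomial.aeval (R := Ω) (fun _ : PUnit.{u+1} => (0 : Ω)) p) = p := by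
  obtain ⟨r, -, rfl⟩ := MvPolynomial.isUnit_iff_eq_C_of_isReduced.mp hp
  simp

/-- A ring homomorphism from a group ring over `ℤ` to `Ω[X]` has constant values. -/
theorem ringHom_const (M : Type) [AddCommGroup M]
    (ρ : MonoidAlgebra (ULift.{u} ℤ) (Multiplicative M) →+* MvPolynomial PUnit.{u+1} Ω) :
    ((MvPolynomial.C).comp ((MvPolynomial.aeval (R := Ω) (fun _ : PUnit.{u+1} => (0 : Ω))).toRingHom)).comp ρ = ρ := by
  refine MonoidAlgebra.ringHom_ext ?_ ?_
  · intro r
    have h : ∀ (φ ψ : ULift.{u} ℤ →+* MvPolynomial PUnit.{u+1} Ω), φ r = ψ r := by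
      intro φ ψ
      have := RingHom.ext_int (φ.comp (ULift.ringEquiv.{0, u} (R := ℤ)).symm.toRingHom)
        (ψ.comp (ULift.ringEquiv.{0, u} (R := ℤ)).symm.toRingHom)
      exact DFunLike.congr_fun this r.down
    exact h ((((MvPolynomial.C).comp ((MvPolynomial.aeval (R := Ω) (fun _ : PUnit.{u+1} => (0 : Ω))).toRingHom)).comp ρ).comp
      (algebraMap (ULift.{u} ℤ) (MonoidAlgebra (ULift.{u} ℤ) (Multiplicative M)))) (ρ.comp (algebraMap _ _))
  · intro m
    apply unit_const
    have h : IsUnit (MonoidAlgebra.single m (1 : ULift.{u} ℤ)) := by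
      refine IsUnit.of_mul_eq_one (MonoidAlgebra.single m⁻¹ (1 : ULift.{u} ℤ)) ?_
      rw [MonoidAlgebra.single_mul_single, mul_inv_cancel, _root_.one_mul]
      rfl
    exact h.map ρ

/-- Morphisms from the affine line to `D(M)` are constant. -/
theorem ds_const (M : Type) [AddCommGroup M] (g : Ln Ω ⟶ Red.DS (Spec (CommRingCat.of Ω)) M) :
    g.left = (Ln Ω).hom ≫ pnt 0 ≫ g.left := by
  apply pullback.hom_ext
  · obtain ⟨ρ, hρ⟩ : ∃ ρ : CommRingCat.of (MonoidAlgebra (ULift.{u} ℤ) (Multiplicative M)) ⟶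
        CommRingCat.of (MvPolynomial PUnit.{u+1} Ω), Spec.map ρ = g.left ≫ pullback.fst _ _ :=
      ⟨Spec.preimage _, Spec.map_preimage _⟩
    rw [Category.assoc, Category.assoc, ← hρ]
    change Spec.map ρ = Spec.map _ ≫ Spec.map _ ≫ Spec.map ρ
    rw [← Spec.map_comp, ← Spec.map_comp]
    congr 1
    ext1
    exact (ringHom_const M ρ.hom).symm
  · have h : g.left ≫ pullback.snd _ _ = (Ln Ω).hom := Over.w g
    rw [Category.assoc, Category.assoc]
    erw [h, pnt_hom]
    exact (Category.comp_id _).symm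

end

end K528.LineConst
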