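import Groth.Agent.AbVar.K528.LineBase
import Groth.Agent.AbVar.K505.RatConst
import Groth.Prelude.Def_AlgGrp

/-!
# Morphisms from the affine line over an algebraically closed field to "large" groups are constant
-/

set_option autoImplicit false
universe u
open CategoryTheory CategoryTheory.Limits MonoidalCategory CartesianMonoidalCategory MonObj AlgebraicGeometry

namespace K528.LineConst

open Groth.Agent.Books.AlgPts

section

variable {Ω : Type u} [Field Ω]

/-- Morphisms from the affine line to proper groups are constant. -/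
theorem proper_const (B : Over (Spec (CommRingCat.of Ω))) [GrpObj B] [IsProper B.hom] (g : Ln Ω ⟶ B) :
    g.left = (Ln Ω).hom ≫ pnt 0 ≫ g.left := by
  have h0 : (AffineSpace.SpecIso PUnit.{u+1} (CommRingCat.of Ω)).inv ≫
      (𝔸(PUnit.{u+1}; Spec (CommRingCat.of Ω)) ↘ Spec (CommRingCat.of Ω)) = (Ln Ω).hom :=
    AffineSpace.SpecIso_inv_over (n := PUnit.{u+1}) (CommRingCat.of Ω)
  have h1 : (AffineSpace.SpecIso PUnit.{u+1} (CommRingCat.of Ω)).hom ≫ (Ln Ω).hom =
      𝔸(PUnit.{u+1}; Spec (CommRingCat.of Ω)) ↘ Spec (CommRingCat.of Ω) := by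
    rw [← h0, Iso.hom_inv_id_assoc]
  let i : K505.RatConst.aff Ω PUnit.{u+1} ⟶ Ln Ω := Over.homMk (AffineSpace.SpecIso PUnit.{u+1} (CommRingCat.of Ω)).hom h1
  obtain ⟨a, ha⟩ := K505.RatConst.exists_const B PUnit.{u+1} (i ≫ g)
  have h2 : g.left = (Ln Ω).hom ≫ a.left := by
    have h3 : (AffineSpace.SpecIso PUnit.{u+1} (CommRingCat.of Ω)).hom ≫ g.left =
        (𝔸(PUnit.{u+1}; Spec (CommRingCat.of Ω)) ↘ Spec (CommRingCat.of Ω)) ≫ a.left := congrArg CommaMorphism.left ha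
    rw [← h1, Category.assoc] at h3
    exact (cancel_epi _).mp h3
  have h4 : pnt 0 ≫ g.left = a.left := by
    rw [h2, pnt_hom_assoc]
  rw [h4, h2]

end

section

variable {k Ω : Type u} [Field k] [Field Ω] (j : Spec (CommRingCat.of Ω) ⟶ Spec (CommRingCat.of k))

/-- The affine line over `Ω`, as a `k`-scheme. -/
noncomputable abbrev Lk : Over (Spec (CommRingCat.of k)) := Over.mk ((Ln Ω).hom ≫ j)

/-- `Spec Ω` as a `k`-scheme. -/
noncomputable abbrev Ωk : Over (Spec (CommRingCat.of k)) := Over.mk j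

/-- The structure map. -/
noncomputable def pr : Lk j ⟶ Ωk j := Over.homMk (Ln Ω).hom rfl

/-- The point `c`. -/
noncomputable def v (c : Ω) : Ωk j ⟶ Lk j := Over.homMk (pnt c) (by
  change pnt c ≫ (Ln Ω).hom ≫ j = j
  rw [pnt_hom_assoc])

@[reassoc]
theorem v_pr (c : Ω) : v j c ≫ pr j = 𝟙 _ := by
  ext1
  exact pnt_hom c

/-- The `Ω`-morphism to the base change attached to a `k`-morphism. -/
noncomputable def toBc {Y : Over (Spec (CommRingCat.of k))} (f : Lk j ⟶ Y) : Ln Ω ⟶ Red.bc j Y :=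
  Over.homMk (pullback.lift f.left (Ln Ω).hom (Over.w f)) (pullback.lift_snd _ _ _)

theorem toBc_left_fst {Y : Over (Spec (CommRingCat.of k))} (f : Lk j ⟶ Y) :
    (toBc j f).left ≫ pullback.fst _ _ = f.left := pullback.lift_fst _ _ _

theorem const_of_toBc {Y : Over (Spec (CommRingCat.of k))} (f : Lk j ⟶ Y)
    (h : (toBc j f).left = (Ln Ω).hom ≫ pnt 0 ≫ (toBc j f).left) : f = pr j ≫ v j 0 ≫ f := by
  ext1
  change f.left = (Ln Ω).hom ≫ pnt 0 ≫ f.left
  rw [← toBc_left_fst j f]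
  conv_lhs => rw [h]
  simp only [Category.assoc]

/-- Morphisms to a proper `k`-group are constant. -/
theorem proper_const' (A : Over (Spec (CommRingCat.of k))) [GrpObj A] [IsProper A.hom] (f : Lk j ⟶ A) :
    f = pr j ≫ v j 0 ≫ f :=
  const_of_toBc j f (@proper_const _ _ (Red.bc j A) _
    (inferInstanceAs (IsProper (pullback.snd A.hom j))) (toBc j f))

/-- Morphisms to a `k`-torus are constant. -/
theorem torus_const [IsAlgClosed Ω] (T : Over (Spec (CommRingCat.of k))) [GrpObj T] (hT : Red.IsTorus T) (f : Lk j ⟶ T) :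
    f = pr j ≫ v j 0 ≫ f := by
  refine const_of_toBc j f ?_
  obtain ⟨r, ⟨e⟩⟩ := Groth.Agent.Sga3B.TorusAlgClosed.exists_isSplitTorusWith
    (Groth.Agent.Sga3B.TorusBc.isTorus_bc j hT)
  let e' : Red.bc j T ≅ Red.DS (Spec (CommRingCat.of Ω)) (Fin r → ℤ) := (Grp.forget _).mapIso e
  have h := ds_const (Fin r → ℤ) (toBc j f ≫ e'.hom)
  rw [Over.comp_left] at h
  have h1 : (toBc j f).left ≫ e'.hom.left = ((Ln Ω).hom ≫ pnt 0 ≫ (toBc j f).left) ≫ e'.hom.left := by
    simpa only [Category.assoc] using h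
  exact (cancel_mono _).mp h1

theorem comp_left_apply {X Y Z : Over (Spec (CommRingCat.of k))} (f : X ⟶ Y) (g : Y ⟶ Z) (x : X.left) :
    (f ≫ g).left x = g.left (f.left x) := rfl

instance : Subsingleton ↥(Ωk j).left := inferInstanceAs (Subsingleton (PrimeSpectrum Ω))

instance : IrreducibleSpace ↥(Lk j).left := inferInstanceAs (IrreducibleSpace ↥(Ln Ω).left)

/-- A point with image in an open subscheme factors through it. -/
theorem fac_iff {G G0 : Over (Spec (CommRingCat.of k))} (e : G0 ⟶ G) [IsOpenImmersion e.left] (y : Ωk j ⟶ G) :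
    (∃ y₀ : Ωk j ⟶ G0, y₀ ≫ e = y) ↔ y.left (IsLocalRing.closedPoint Ω) ∈ Set.range e.left := by
  constructor
  · rintro ⟨y₀, rfl⟩
    exact ⟨y₀.left (IsLocalRing.closedPoint Ω), rfl⟩
  · intro hy
    have h1 : Set.range y.left ⊆ Set.range e.left := by
      rintro _ ⟨x, rfl⟩
      rwa [Subsingleton.elim x (IsLocalRing.closedPoint Ω)]
    refine ⟨Over.homMk (IsOpenImmersion.lift e.left y.left h1) ?_, ?_⟩
    · rw [← Over.w e, IsOpenImmersion.lift_fac_assoc, Over.w]
    · ext1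
      exact IsOpenImmersion.lift_fac _ _ _

/-- `Ω`-points of the line as morphisms over `k`. -/
noncomputable def ofPt (w : 𝟙_ (Over (Spec (CommRingCat.of Ω))) ⟶ Ln Ω) : Ωk j ⟶ Lk j := Over.homMk w.left (by
  have h1 : w.left ≫ (Ln Ω).hom = 𝟙 _ := Over.w w
  change w.left ≫ (Ln Ω).hom ≫ j = j
  rw [reassoc_of% h1])

@[reassoc]
theorem ofPt_pr (w : 𝟙_ (Over (Spec (CommRingCat.of Ω))) ⟶ Ln Ω) : ofPt j w ≫ pr j = 𝟙 _ := by
  ext1
  exact Over.w w

theorem ofPt_apply (w : 𝟙_ (Over (Spec (CommRingCat.of Ω))) ⟶ Ln Ω) :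
    (ofPt j w).left (IsLocalRing.closedPoint Ω) = pt w := rfl

instance locallyOfFiniteType_Ln : LocallyOfFiniteType (Ln Ω).hom := by
  change LocallyOfFiniteType (Spec.map _)
  rw [HasRingHomProperty.Spec_iff (P := @LocallyOfFiniteType)]
  change (algebraMap Ω (MvPolynomial PUnit.{u+1} Ω)).FiniteType
  rw [RingHom.finiteType_algebraMap]
  infer_instance

/-- The image of a `k`-morphism from the line over `Ω` which meets an open subgroup at zero lies in it. -/
theorem open_factor [IsAlgClosed Ω] (G G0 : Over (Spec (CommRingCat.of k))) [GrpObj G] [GrpObj G0]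
    (e : G0 ⟶ G) [IsMonHom e] [IsOpenImmersion e.left] (f : Lk j ⟶ G) (h0 : v j 0 ≫ f = 1) :
    ∃ f₀ : Lk j ⟶ G0, f₀ ≫ e = f := by
  have hone : (1 : Ωk j ⟶ G0) ≫ e = 1 := by simp
  -- `Ω`-points of the line
  have key : ∀ w : 𝟙_ (Over (Spec (CommRingCat.of Ω))) ⟶ Ln Ω,
      (pt w : (Ln Ω).left) ∈ (f.left ⁻¹ᵁ e.left.opensRange : Set ↥(Lk j).left) := by
    intro w
    let g : Lk j ⟶ G := (pr j ≫ ofPt j w ≫ f)⁻¹ * f
    have hg : ofPt j w ≫ g = 1 := by
      simp only [g, comp_mul, GrpObj.comp_inv, ofPt_pr_assoc]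
      simp
    have hU₁ : (f.left ⁻¹ᵁ e.left.opensRange : Set ↥(Lk j).left).Nonempty :=
      ⟨(v j 0).left (IsLocalRing.closedPoint Ω), (fac_iff j e (v j 0 ≫ f)).mp ⟨1, by rw [hone, h0]⟩⟩
    have hU₂ : (g.left ⁻¹ᵁ e.left.opensRange : Set ↥(Lk j).left).Nonempty :=
      ⟨(ofPt j w).left (IsLocalRing.closedPoint Ω), (fac_iff j e (ofPt j w ≫ g)).mp ⟨1, by rw [hone, hg]⟩⟩
    have hne := nonempty_preirreducible_inter (f.left ⁻¹ᵁ e.left.opensRange).2
      (g.left ⁻¹ᵁ e.left.opensRange).2 hU₁ hU₂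
    obtain ⟨x, hx⟩ := exists_pt_mem (X := Ln Ω) hne
      ((f.left ⁻¹ᵁ e.left.opensRange).2.inter (g.left ⁻¹ᵁ e.left.opensRange).2).isLocallyClosed
    obtain ⟨a, ha⟩ := (fac_iff j e (ofPt j x ≫ f)).mpr hx.1
    obtain ⟨b, hb⟩ := (fac_iff j e (ofPt j x ≫ g)).mpr hx.2
    have h5 : ofPt j w ≫ f = (a * b⁻¹) ≫ e := by
      have h6 : ofPt j x ≫ g = (ofPt j w ≫ f)⁻¹ * (ofPt j x ≫ f) := by
        simp only [g, comp_mul, GrpObj.comp_inv, ofPt_pr_assoc]
      have h7 : (a * b⁻¹) ≫ e = (a ≫ e) * (b ≫ e)⁻¹ := by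
        rw [MonObj.mul_comp, GrpObj.inv_comp]
      rw [h7, ha, hb, h6]
      group
    exact (fac_iff j e (ofPt j w ≫ f)).mp ⟨a * b⁻¹, h5.symm⟩
  have hall : (Set.univ : Set ↥(Ln Ω).left) ⊆ (f.left ⁻¹ᵁ e.left.opensRange : Set ↥(Lk j).left) := by
    by_contra hne
    obtain ⟨y, -, hy⟩ := Set.not_subset.mp hne
    obtain ⟨x, hx⟩ := exists_pt_mem (X := Ln Ω) (U := (f.left ⁻¹ᵁ e.left.opensRange : Set ↥(Lk j).left)ᶜ) ⟨y, hy⟩
      (f.left ⁻¹ᵁ e.left.opensRange).2.isClosed_compl.isLocallyClosed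
    exact hx (key x)
  have h1 : Set.range f.left ⊆ Set.range e.left := by
    rintro _ ⟨x, rfl⟩
    exact hall (Set.mem_univ x)
  refine ⟨Over.homMk (IsOpenImmersion.lift e.left f.left h1) ?_, ?_⟩
  · rw [← Over.w e, IsOpenImmersion.lift_fac_assoc, Over.w]
  · ext1
    exact IsOpenImmersion.lift_fac _ _ _

/-- Morphisms from the line over `Ω` to an extension of a proper group by a torus, with open image in a group `G`, are
constant. -/
theorem large_const [IsAlgClosed Ω] (G G0 T A : Over (Spec (CommRingCat.of k))) [GrpObj G] [GrpObj G0] [GrpObj T]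
    [GrpObj A] [IsProper A.hom]
    (e : G0 ⟶ G) [IsMonHom e] [IsOpenImmersion e.left]
    (i : T ⟶ G0) [IsMonHom i] [Mono i] (hT : Red.IsTorus T)
    (q : G0 ⟶ A) [IsMonHom q] (hker : AlgGrp.IsKernel i q)
    (f : Lk j ⟶ G) : f = pr j ≫ v j 0 ≫ f := by
  have main : ∀ f : Lk j ⟶ G, v j 0 ≫ f = 1 → f = 1 := by
    intro f h0
    have : Mono e := by
      have : Mono e.left := inferInstance
      exact (Over.forget _).mono_of_mono_map (show Mono ((Over.forget _).map e) from this)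
    obtain ⟨f₀, rfl⟩ := open_factor j G G0 e f h0
    have hz : v j 0 ≫ f₀ = 1 := by
      rw [← cancel_mono e, Category.assoc, h0]
      simp
    have hq : f₀ ≫ q = 1 := by
      rw [proper_const' j A (f₀ ≫ q), reassoc_of% hz]
      simp
    obtain ⟨t, ht, -⟩ := hker.exists_lift f₀ (toUnit _) (by
      rw [hq]
      rfl)
    subst ht
    have hz' : v j 0 ≫ t = 1 := by
      rw [← cancel_mono i, Category.assoc, hz]
      simp
    rw [torus_const j T hT t, hz']
    simp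
  have h1 := main ((pr j ≫ v j 0 ≫ f)⁻¹ * f) (by
    simp only [comp_mul, GrpObj.comp_inv, v_pr_assoc]
    simp)
  rw [inv_mul_eq_one] at h1
  exact h1.symm

end

end K528.LineConst
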