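import Groth.Agent.CohDim.K685.DualSes
import Groth.Agent.CohDim.K685.DualEmb
import Groth.Agent.Dcoh.MonAdj

/-!
# Mates of sums; duals and the sheaf Hom
-/

set_option autoImplicit false
universe u v
open CategoryTheory CategoryTheory.Limits MonoidalCategory AlgebraicGeometry

namespace K528.MateSum

section Sum

variable {C : Type u} [Category.{v} C] [Abelian C] [MonoidalCategory C] [MonoidalPreadditive C]

theorem mate_sum {κ : Type*} [Fintype κ] {A B : C} [HasRightDual A] [HasRightDual B]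
    (f : κ → (A ⟶ B)) : (∑ i, f i)ᘁ = ∑ i, (f i)ᘁ := by
  apply K685.DualSes.beta_injective
  have h1 : K685.DualSes.beta A ((∑ i, f i)ᘁ) = Bᘁ ◁ (∑ i, f i) ≫ ε_ B (Bᘁ) := by
    have := K685.DualSes.beta_mate (∑ i, f i) (𝟙 (Bᘁ))
    rw [Category.id_comp] at this
    rw [this, K685.DualSes.beta, id_whiskerRight, Category.id_comp]
  have h2 : ∀ i, K685.DualSes.beta A ((f i)ᘁ) = Bᘁ ◁ f i ≫ ε_ B (Bᘁ) := fun i => by
    have := K685.DualSes.beta_mate (f i) (𝟙 (Bᘁ))
    rw [Category.id_comp] at this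
    rw [this, K685.DualSes.beta, id_whiskerRight, Category.id_comp]
  have h3 : K685.DualSes.beta A (∑ i, (f i)ᘁ) = ∑ i, K685.DualSes.beta A ((f i)ᘁ) := by
    rw [K685.DualSes.beta, sum_whiskerRight, Preadditive.sum_comp]
    rfl
  rw [h1, h3, whiskerLeft_sum, Preadditive.sum_comp]
  exact Finset.sum_congr rfl fun i _ => (h2 i).symm

/-- Dualizing a presentation of the identity as a sum. -/
theorem sum_mate_comp {κ : Type*} [Fintype κ] {A B : C} [HasRightDual A] [HasRightDual B]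
    (a : κ → (A ⟶ B)) (b : κ → (B ⟶ A)) (h : ∑ i, a i ≫ b i = 𝟙 A) :
    ∑ i, (b i)ᘁ ≫ (a i)ᘁ = 𝟙 (Aᘁ) := by
  have h1 : ∀ i, (b i)ᘁ ≫ (a i)ᘁ = (a i ≫ b i)ᘁ := fun i => (comp_rightAdjointMate).symm
  rw [Finset.sum_congr rfl fun i _ => h1 i, ← mate_sum, h, rightAdjointMate_id]

end Sum

section Hom

open Groth.Agent
open scoped Groth.Agent.Dcoh.MonCat

variable {X : Scheme.{u}}

/-- The dual of a module isomorphic to a finite locally free module, as the sheaf Hom into `O`. -/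
theorem nonempty_pairing {N M : X.Modules} (hN : FlatMod.IsFinLocFree N) (e : M ≅ N)
    [DCoh.HasSheafHom M] :
    Nonempty (ExactPairing N ((DCoh.sheafHom M).obj (Coh.structureModule X))) := by
  obtain ⟨Y, ⟨hY⟩⟩ := Dcoh.DualFLF.exists_exactPairing hN
  let hM : ExactPairing M Y := exactPairingCongrLeft e
  obtain ⟨t⟩ := Dcoh.MonAdj.nonempty_dual_unit Y (K := M) (FK := DCoh.tensorBi.obj M)
    (RK := DCoh.sheafHom M) ⟨BraidedCategory.tensorLeftIsoTensorRight M⟩ (DCoh.sheafHomAdj M)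
  exact ⟨exactPairingCongrRight t.symm⟩

end Hom

end K528.MateSum
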