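import Groth.Agent.AbVar.K512.PoincMod
import Groth.Agent.AbVar.K511.AmpleVan
import Groth.Agent.AbVar.K527.FibreVan
import Groth.Agent.AbSch.K449.FibVan2
import Groth.Agent.Surf.K456.FlatInv
import Groth.Agent.CohDim.K685.ResolAmple
import Groth.Agent.S18369

/-!
# Ample modules satisfy `IT₀`

`A`, `At` dual abelian varieties over an algebraically closed field, `P` a Poincaré module on `A × At`,
`L` an ample invertible module on `At`: the higher direct images of `q₁^* L ⊗ P^t` along
`q₂ : At × A → A` vanish and `q₂_*(q₁^* L ⊗ P^t)` is finite locally free.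
-/

set_option autoImplicit false
universe u

open CategoryTheory CategoryTheory.Limits MonoidalCategory CartesianMonoidalCategory MonObj GrpObj
  AlgebraicGeometry

namespace K528.PushIT

open Groth.Agent Groth.Agent.Grpsch.PicGrp Groth.Agent.Grpsch.Cube Groth.Agent.Fdesc.LocGen K512.Phi K732.Prim

variable {k : Type u} [Field k] {A At : Over (Spec (CommRingCat.of k))} [GrpObj A] [GrpObj At]
  [IsProper A.hom] [GeometricallyIntegral A.hom]
  {φ : ∀ T : Over (Spec (CommRingCat.of k)), PicF.Cl (PicF.XT A.hom T) → (T ⟶ At)}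
  (hφ : AbDual.IsDualAV Scheme.fppfPrecoverage A At φ)
  {P : (pullback A.hom At.hom).Modules} (hP : PicF.IsInvertible P)
  (hPξ : AbDual.IsPoincareCl A At φ (PicF.cl P))

include hφ hPξ in
/-- The classes `P|_{x × At}` are invariant under translations. -/
theorem pl_tr_fibre (x : 𝟙_ (Over (Spec (CommRingCat.of k))) ⟶ A)
    (y : 𝟙_ (Over (Spec (CommRingCat.of k))) ⟶ At) :
    pl (tr y) (pull (lift (toUnit At ≫ x) (𝟙 At)).left (mk P hP)) =
      pull (lift (toUnit At ≫ x) (𝟙 At)).left (mk P hP) := by
  obtain ⟨ζ, h1, h2, h3, h4⟩ := K732.AV.exists_of_isPoincareCl hPξ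
  have e : ζ = mk P hP := Fga.RigGrp.toCl_injective h4
  subst e
  have h5 := K512.PoincId.ev_mul_right hφ h1 h2 h3 (toUnit At ≫ x) (𝟙 At) (toUnit At ≫ y)
  have h6 : ev (toUnit At ≫ x) (toUnit At ≫ y) (mk P hP) = 1 := by
    rw [← pull_ev (toUnit At) x y, pic_spec_local k (ev x y (mk P hP)), map_one]
  rw [h6, _root_.mul_one] at h5
  have h7 := pull_ev (tr y) (toUnit At ≫ x) (𝟙 At) (mk P hP)
  rw [Category.comp_id, ← Category.assoc, toUnit_unique (tr y ≫ toUnit At) (toUnit At)] at h7
  exact h7.trans h5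

variable [IsProper At.hom] [GeometricallyIntegral At.hom]

section Fib

variable (L : At.left.Modules) (hL : PicF.IsInvertible L)

/-- The transposed Poincaré module. -/
noncomputable abbrev Pt (P : (pullback A.hom At.hom).Modules) : (pullback At.hom A.hom).Modules :=
  (Scheme.Modules.pullback (pullbackSymmetry At.hom A.hom).hom).obj P

/-- `q₁^* L ⊗ P^t`. -/
noncomputable abbrev tw (P : (pullback A.hom At.hom).Modules) (L : At.left.Modules) :
    (pullback At.hom A.hom).Modules :=
  CohB1.tensorMod ((Scheme.Modules.pullback (pullback.fst At.hom A.hom)).obj L) (Pt P)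

include hP hL in
omit [GrpObj A] [GrpObj At] [IsProper A.hom] [GeometricallyIntegral A.hom] [IsProper At.hom]
  [GeometricallyIntegral At.hom] in
theorem isInvertible_tw : PicF.IsInvertible (tw P L) :=
  isInvertible_tensorMod (isInvertible_pullback _ hL) (isInvertible_pullback _ hP)

/-- The slice `At → At × A`. -/
noncomputable def slice (x : 𝟙_ (Over (Spec (CommRingCat.of k))) ⟶ A) :
    At.left ⟶ pullback At.hom A.hom :=
  pullback.lift (𝟙 _) (toUnit At ≫ x).left (by
    rw [Category.id_comp]
    exact (Over.w (toUnit At ≫ x)).symm)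

omit [GrpObj A] [GrpObj At] [IsProper A.hom] [GeometricallyIntegral A.hom] [IsProper At.hom]
  [GeometricallyIntegral At.hom] in
theorem slice_sym (x : 𝟙_ (Over (Spec (CommRingCat.of k))) ⟶ A) :
    slice (At := At) x ≫ (pullbackSymmetry At.hom A.hom).hom =
      (lift (toUnit At ≫ x) (𝟙 At)).left := by
  apply pullback.hom_ext
  · rw [Category.assoc, pullbackSymmetry_hom_comp_fst, slice, pullback.lift_snd]
    exact (congrArg CommaMorphism.left (lift_fst (toUnit At ≫ x) (𝟙 At))).symm
  · rw [Category.assoc, pullbackSymmetry_hom_comp_snd, slice, pullback.lift_fst]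
    exact (congrArg CommaMorphism.left (lift_snd (toUnit At ≫ x) (𝟙 At))).symm

omit [GrpObj A] [GrpObj At] [IsProper A.hom] [GeometricallyIntegral A.hom] [IsProper At.hom]
  [GeometricallyIntegral At.hom] in
theorem isPullback_slice (x : 𝟙_ (Over (Spec (CommRingCat.of k))) ⟶ A) :
    IsPullback (slice (At := At) x) At.hom (pullback.snd At.hom A.hom) x.left := by
  have h1 : IsPullback (slice (At := At) x ≫ pullback.fst At.hom A.hom) At.hom At.hom
      (x.left ≫ A.hom) := by
    have e1 : slice (At := At) x ≫ pullback.fst At.hom A.hom = 𝟙 _ := pullback.lift_fst _ _ _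
    have e2 : x.left ≫ A.hom = 𝟙 _ := Over.w x
    rw [e1, e2]
    exact IsPullback.of_id_fst
  refine IsPullback.of_right h1 ?_ (IsPullback.of_hasPullback At.hom A.hom)
  rw [slice, pullback.lift_snd]
  rfl

include hP hL in
omit [GrpObj A] [GrpObj At] [IsProper A.hom] [GeometricallyIntegral A.hom] [IsProper At.hom]
  [GeometricallyIntegral At.hom] in
/-- The restriction of `q₁^* L ⊗ P^t` to the slice over `x` is `L ⊗ P_x`. -/
theorem nonempty_slice (x : 𝟙_ (Over (Spec (CommRingCat.of k))) ⟶ A) :
    Nonempty ((Scheme.Modules.pullback (slice (At := At) x)).obj (tw P L) ≅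
      CohB1.tensorMod L ((Scheme.Modules.pullback (lift (toUnit At ≫ x) (𝟙 At)).left).obj P)) := by
  have h1 : pull (slice (At := At) x) (mk (tw P L) (isInvertible_tw hP L hL)) =
      mk L hL * pull (lift (toUnit At ≫ x) (𝟙 At)).left (mk P hP) := by
    have h2 : mk (tw P L) (isInvertible_tw hP L hL) =
        pull (pullback.fst At.hom A.hom) (mk L hL) *
          pull (pullbackSymmetry At.hom A.hom).hom (mk P hP) := by
      rw [pull_mk, pull_mk, mk_mul_mk]
    rw [h2, map_mul, ← pull_comp, ← pull_comp, slice_sym]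
    congr 1
    have e1 : slice (At := At) x ≫ pullback.fst At.hom A.hom = 𝟙 _ := pullback.lift_fst _ _ _
    rw [e1, pull_id]
  rw [pull_mk, pull_mk, mk_mul_mk, mk_eq_iff] at h1
  exact h1

end Fib

variable [IsAlgClosed k]

include hφ hP hPξ in
/-- The fibres over closed points. -/
theorem van_slice (L : At.left.Modules) (hL : CohB1.IsAmple L)
    (x : 𝟙_ (Over (Spec (CommRingCat.of k))) ⟶ A) (j : ℕ) (hj : 0 < j) :
    Subsingleton (Coh.HH At.left ((Scheme.Modules.pullback (slice (At := At) x)).obj (tw P L)) j) := by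
  obtain ⟨e⟩ := nonempty_slice hP L hL.1 x
  refine Flat2D.LocalGlobalH.subsingleton_HH_of_iso e.symm _ ?_
  refine K511.AmpleVan.vanish At _ ?_ j hj
  refine S18369.ample_closed At L hL _ (isInvertible_pullback _ hP) fun y => ?_
  have h := pl_tr_fibre hφ hP hPξ x y
  rwa [pull_mk] at h

include hφ hP hPξ in
/-- **`IT₀`**. -/
theorem main (L : At.left.Modules) (hL : CohB1.IsAmple L)
    [HasInjectiveResolutions (pullback At.hom A.hom).Modules] :
    (∀ p : ℕ, 1 ≤ p → IsZero ((Coh.Rpush (pullback.snd At.hom A.hom) p).obj (tw P L))) ∧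
      FlatMod.IsFinLocFree ((Coh.push (pullback.snd At.hom A.hom)).obj (tw P L)) := by
  have hM : PicF.IsInvertible (tw P L) := isInvertible_tw hP L hL.1
  let _ : A.left.Over (Spec (CommRingCat.of k)) := ⟨A.hom⟩
  have hprop : IsProper (A.left ↘ Spec (CommRingCat.of k)) := inferInstanceAs (IsProper A.hom)
  have hN : IsNoetherian A.left := VarietyA.TwistExist.isNoetherian k A.left
  have hJ : JacobsonSpace ↥A.left := LocallyOfFiniteType.jacobsonSpace A.hom
  have hc : Coh.IsCoh (tw P L) := PerfA.CohSerre.isCoh_of_isFinLocFree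
    (K685.ResolAmple.isFinLocFree_of_isInvertible hM)
  have hfl : FlatMod.IsFlatOver (pullback.snd At.hom A.hom) (tw P L) :=
    K456.FlatInv.isFlatOver_of_isInvertible _ hM
  refine K449.FibVan2.main (pullback.snd At.hom A.hom) (tw P L) hM ?_
  intro s p hp
  have hopen := K527.FibreVan.isOpen_van (pullback.snd At.hom A.hom) (tw P L) hc hfl p
  by_contra hs
  have hcl : IsClosed {y : A.left | Subsingleton
      (CohIII.fiberH (pullback.snd At.hom A.hom) (tw P L) y p)}ᶜ := hopen.isClosed_compl
  have hne : ({y : A.left | Subsingleton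
      (CohIII.fiberH (pullback.snd At.hom A.hom) (tw P L) y p)}ᶜ).Nonempty := ⟨s, hs⟩
  obtain ⟨y, hy, hyc⟩ : ∃ y ∈ {y : A.left | Subsingleton
      (CohIII.fiberH (pullback.snd At.hom A.hom) (tw P L) y p)}ᶜ, IsClosed ({y} : Set A.left) := by
    have h1 := JacobsonSpace.closure_inter_closedPoints hcl
    by_contra hno
    push_neg at hno
    have h2 : {y : A.left | Subsingleton
        (CohIII.fiberH (pullback.snd At.hom A.hom) (tw P L) y p)}ᶜ ∩ closedPoints A.left = ∅ := by
      rw [Set.eq_empty_iff_forall_notMem]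
      rintro y ⟨hy1, hy2⟩
      exact hno y hy1 hy2
    rw [h2, closure_empty] at h1
    rw [← h1] at hne
    exact Set.not_nonempty_empty hne
  let x : 𝟙_ (Over (Spec (CommRingCat.of k))) ⟶ A :=
    Over.homMk (pointOfClosedPoint A.hom y hyc) (pointOfClosedPoint_comp A.hom y hyc)
  have hx : x.left (IsLocalRing.closedPoint k) = y := pointOfClosedPoint_apply A.hom y hyc _
  refine hy ?_
  obtain ⟨n, rfl⟩ : ∃ n, p = n + 1 := ⟨p - 1, by omega⟩
  have h1 := K527.FibreVan.fiberH_iff (pullback.snd At.hom A.hom) (tw P L) hc.1 x.left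
    (slice (At := At) x) At.hom (isPullback_slice x) n
  rw [hx] at h1
  exact h1.2 (van_slice hφ hP hPξ L hL x (n + 1) (Nat.succ_pos n))

end K528.PushIT
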