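import Groth.Agent.AbVar.K528.PushIT
import Groth.Agent.AbVar.K512.FMPull
import Groth.Agent.PerfB.H0Fibre
import Groth.Agent.PerfC.RpushSingle

/-!
# Fourier–Mukai transforms of ample modules, in the derived category
-/

set_option autoImplicit false
universe u

open CategoryTheory CategoryTheory.Limits MonoidalCategory CartesianMonoidalCategory MonObj GrpObj
  AlgebraicGeometry
attribute [local instance] HasDerivedCategory.standard

namespace K528.PushITD

open Groth.Agent K528.PushIT

/-- `Rf_* M = f_* M` if the higher direct images vanish. -/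
theorem nonempty_rpush {X Y : Scheme.{u}} (f : X ⟶ Y) [DCoh.HasRpush f]
    [HasInjectiveResolutions X.Modules] (M : X.Modules)
    (h : ∀ p : ℕ, 1 ≤ p → IsZero ((Coh.Rpush f p).obj M)) :
    Nonempty ((DCoh.Rpush f).obj (DCoh.inD X M) ≅ DCoh.inD Y ((Coh.push f).obj M)) := by
  have hneg := PerfC.RpushSingle.isZero_of_neg f M
  have hpos : ∀ n : ℤ, 0 < n → IsZero (DCoh.HD ((DCoh.Rpush f).obj (DCoh.inD X M)) n) := by
    intro n hn
    obtain ⟨m, rfl⟩ := Int.eq_ofNat_of_zero_le hn.le
    exact (h m (by omega)).of_iso (PerfC.RpushSingle.iso f m M)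
  have hGE : ((DCoh.Rpush f).obj (DCoh.inD X M)).IsGE 0 :=
    (DerivedCategory.isGE_iff _ 0).2 fun i hi => hneg i hi
  have hLE : ((DCoh.Rpush f).obj (DCoh.inD X M)).IsLE 0 :=
    (DerivedCategory.isLE_iff _ 0).2 fun i hi => hpos i hi
  obtain ⟨A, ⟨e⟩⟩ := DerivedCategory.exists_iso_singleFunctor_obj_of_isGE_of_isLE
    ((DCoh.Rpush f).obj (DCoh.inD X M)) 0
  let e1 : A ≅ (Coh.push f).obj M :=
    ((DerivedCategory.singleFunctorCompHomologyFunctorIso Y.Modules 0).app A).symm ≪≫
      (DerivedCategory.homologyFunctor Y.Modules 0).mapIso e.symm ≪≫ PerfB.H0Fibre.HDzero f M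
  exact ⟨e ≪≫ (DerivedCategory.singleFunctor Y.Modules 0).mapIso e1⟩

variable {k : Type u} [Field k] {A At : Over (Spec (CommRingCat.of k))}

section Comparison

variable [Flat A.hom] {P : (pullback A.hom At.hom).Modules} (hP : PicF.IsInvertible P)
  [DCoh.HasLpull (pullback.fst At.hom A.hom)]
  [DCoh.HasLTensorMod ((Scheme.Modules.pullback (pullbackSymmetry At.hom A.hom).hom).obj P)]
  [DCoh.HasRpush (pullback.snd At.hom A.hom)]

include hP in
/-- The Fourier–Mukai transform of an invertible module. -/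
theorem nonempty_phi (L : At.left.Modules) (hL : PicF.IsInvertible L) :
    Nonempty ((DCoh.Lpull (pullback.fst At.hom A.hom) ⋙ DCoh.LTensorMod ((Scheme.Modules.pullback (pullbackSymmetry At.hom A.hom).hom).obj P) ⋙ DCoh.Rpush (pullback.snd At.hom A.hom)).obj (DCoh.inD At.left L) ≅
      (DCoh.Rpush (pullback.snd At.hom A.hom)).obj (DCoh.inD _ (tw P L))) := by
  have hPt : PicF.IsInvertible (Pt P) := Fdesc.LocGen.isInvertible_pullback _ hP
  have hqL : PicF.IsInvertible ((Scheme.Modules.pullback (pullback.fst At.hom A.hom)).obj L) :=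
    Fdesc.LocGen.isInvertible_pullback _ hL
  let e1 := (DCoh.LTensorMod (Pt P)).mapIso (K512.FMPull.pullInD (pullback.fst At.hom A.hom) hL) ≪≫
    K512.FMPull.tensInD hqL hPt
  exact ⟨(DCoh.Rpush (pullback.snd At.hom A.hom)).mapIso e1⟩

include hP in
/-- The degree-zero Fourier–Mukai transform of an invertible module. -/
theorem nonempty_HD (L : At.left.Modules) (hL : PicF.IsInvertible L) :
    Nonempty (DCoh.HD ((DCoh.Lpull (pullback.fst At.hom A.hom) ⋙ DCoh.LTensorMod ((Scheme.Modules.pullback (pullbackSymmetry At.hom A.hom).hom).obj P) ⋙ DCoh.Rpush (pullback.snd At.hom A.hom)).obj (DCoh.inD At.left L)) 0 ≅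
      (Coh.push (pullback.snd At.hom A.hom)).obj (tw P L)) := by
  obtain ⟨e⟩ := nonempty_phi hP L hL
  exact ⟨(DerivedCategory.homologyFunctor A.left.Modules 0).mapIso e ≪≫
    PerfB.H0Fibre.HDzero (pullback.snd At.hom A.hom) (tw P L)⟩

end Comparison

variable [IsAlgClosed k] [GrpObj A] [GrpObj At]
  [IsProper A.hom] [GeometricallyIntegral A.hom] [Flat A.hom]
  [IsProper At.hom] [GeometricallyIntegral At.hom]
  {φ : ∀ T : Over (Spec (CommRingCat.of k)), PicF.Cl (PicF.XT A.hom T) → (T ⟶ At)}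

/-- **`IT₀` for ample modules**: the Fourier–Mukai transform of an ample module is a finite locally
free module in degree `0`. -/
theorem exists_hat (hφ : AbDual.IsDualAV Scheme.fppfPrecoverage A At φ)
    {P : (pullback A.hom At.hom).Modules} (hP : PicF.IsInvertible P)
    (hPξ : AbDual.IsPoincareCl A At φ (PicF.cl P))
    [DCoh.HasLpull (pullback.fst At.hom A.hom)]
    [DCoh.HasLTensorMod ((Scheme.Modules.pullback (pullbackSymmetry At.hom A.hom).hom).obj P)]
    [DCoh.HasRpush (pullback.snd At.hom A.hom)]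
    (L : At.left.Modules) (hL : CohB1.IsAmple L) :
    ∃ Lhat : A.left.Modules, FlatMod.IsFinLocFree Lhat ∧
      Nonempty ((DCoh.Lpull (pullback.fst At.hom A.hom) ⋙ DCoh.LTensorMod ((Scheme.Modules.pullback (pullbackSymmetry At.hom A.hom).hom).obj P) ⋙ DCoh.Rpush (pullback.snd At.hom A.hom)).obj (DCoh.inD At.left L) ≅
        DCoh.inD A.left Lhat) := by
  have hinj : HasInjectiveResolutions (pullback At.hom A.hom).Modules :=
    Dcoh.DerSch.hasInjectiveResolutions _
  obtain ⟨h1, h2⟩ := K528.PushIT.main hφ hP hPξ L hL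
  obtain ⟨e⟩ := nonempty_phi hP L hL.1
  obtain ⟨e'⟩ := nonempty_rpush (pullback.snd At.hom A.hom) (tw P L) h1
  exact ⟨_, h2, ⟨e ≪≫ e'⟩⟩

end K528.PushITD
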