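import Groth.Agent.AbVar.K528.EmbAmp
import Groth.Agent.Models2.FMExact
import Groth.Agent.Surf.K456.FlatInv
import Groth.Agent.Sga67.LocBasisOps
import Groth.Agent.PerfC.PullRestrict
import Groth.Agent.Dcoh.DerSch
import Groth.Agent.Curves.K320.HomSemi
import Groth.Agent.S6619
import Groth.Agent.S1027

/-!
# Fourier-Mukai acyclic modules and the exact sequences they give

`p : Z ⟶ X`, `q : Z ⟶ Y`, `K` an invertible module on `Z`; `Q` is good if it is finite locally free
and `R^i q_*(p^* Q ⊗ K) = 0` for `i > 0`.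
-/

set_option autoImplicit false
universe u
open CategoryTheory CategoryTheory.Limits MonoidalCategory AlgebraicGeometry TopologicalSpace

namespace K528.PushSes

open Groth.Agent Groth.Agent.Models2.FMExact
open scoped Groth.Agent.Dcoh.MonCat

variable {X Y Z : Scheme.{u}} (p : Z ⟶ X) (q : Z ⟶ Y) (K : Z.Modules)
  [HasInjectiveResolutions Z.Modules]

/-- `Q ↦ q_*(p^* Q ⊗ K)`. -/
noncomputable abbrev N : X.Modules ⥤ Y.Modules := G p K ⋙ Scheme.Modules.pushforward q

/-- The good modules. -/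
structure Good (Q : X.Modules) : Prop where
  flf : FlatMod.IsFinLocFree Q
  van : ∀ i : ℕ, 0 < i → IsZero ((Coh.Rpush q i).obj ((G p K).obj Q))

theorem isZero_of_retract {A B : Type*} [Category* A] [Category* B] [Preadditive A] [Preadditive B]
    (F : A ⥤ B) [F.Additive] {E L : A} (hL : IsZero (F.obj L)) {κ : Type*} [Fintype κ]
    (a : κ → (E ⟶ L)) (b : κ → (L ⟶ E)) (hab : ∑ i, a i ≫ b i = 𝟙 E) : IsZero (F.obj E) := by
  rw [IsZero.iff_id_eq_zero, ← F.map_id, ← hab, F.map_sum]
  refine Finset.sum_eq_zero fun i _ => ?_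
  rw [F.map_comp, hL.eq_of_tgt (F.map (a i)) 0, zero_comp]

variable {p q K}

theorem Good.of_retract {E L : X.Modules} (hE : FlatMod.IsFinLocFree E) (hL : Good p q K L)
    {κ : Type*} [Fintype κ] (a : κ → (E ⟶ L)) (b : κ → (L ⟶ E))
    (hab : ∑ i, a i ≫ b i = 𝟙 E) : Good p q K E where
  flf := hE
  van i hi := by
    have : (G p K ⋙ Coh.Rpush q i).Additive := by
      have h1 : (Coh.Rpush q i).Additive :=
        inferInstanceAs ((Scheme.Modules.pushforward q).rightDerived i).Additive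
      infer_instance
    exact isZero_of_retract (G p K ⋙ Coh.Rpush q i) (hL.van i hi) a b hab

/-- The push forward of a good module is finite locally free. -/
theorem Good.isFinLocFree [IsProper q] [Flat q] [LocallyOfFinitePresentation q]
    (hK : PicF.IsInvertible K) {Q : X.Modules} (hQ : Good p q K Q) :
    FlatMod.IsFinLocFree ((N p q K).obj Q) := by
  have h1 : FlatMod.IsFinLocFree ((G p K).obj Q) :=
    Sga67.LocBasis.isFinLocFree_tensorMod (PerfC.PullRestrict.isFinLocFree_pullback p hQ.flf)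
      (K456.FlatInv.isFinLocFree_of_isInvertible hK)
  have h2 : CohB1.IsFP ((G p K).obj Q) := Desc.FinLocFreeSections.isFP_of_isFinLocFree h1
  exact S1027.result q _ h2 (K320.HomSemi.isFlatOver_of_flf q h1)
    (PerfB.StructFlat.isProperOver_support q h2) hQ.van

/-- The quotient of good modules is good, and the push forwards form a short exact sequence. -/
theorem Good.quotient (hKf : FlatMod.IsFlatOver p K) {S : ShortComplex X.Modules} (hS : S.ShortExact)
    (h1 : Good p q K S.X₁) (h2 : Good p q K S.X₂) (h3 : FlatMod.IsFinLocFree S.X₃) :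
    Good p q K S.X₃ ∧ (S.map (N p q K)).ShortExact := by
  have := preservesFiniteLimits_G p K hKf
  have := Dcoh.DerSch.enoughInjectives Z
  have hT := hS.map_of_exact (G p K)
  have h := (S6619.result (Scheme.Modules.pushforward q) (S.map (G p K)) hT).2.1 h1.van h2.van
  exact ⟨⟨h3, h.1⟩, h.2⟩

section Step

variable {L : X.Modules} (hL : CohB1.IsAmple L)

/-- **The step**: every good `Q` sits in `0 → Q → E → Q₁ → 0` with `E`, `Q₁` good and `E` a direct
summand of a sum of copies of `L^n`, `n ≥ m₀`. -/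
theorem exists_step (hKf : FlatMod.IsFlatOver p K) (hL : CohB1.IsAmple L)
    (hgood : ∀ n : ℕ, 0 < n → Good p q K (CohB1.tensorPow L n)) (m₀ : ℕ) {Q : X.Modules}
    (hQ : Good p q K Q) :
    ∃ (n : ℕ) (_ : m₀ ≤ n) (S : ShortComplex X.Modules), S.X₁ = Q ∧ S.ShortExact ∧
      Good p q K S.X₂ ∧ Good p q K S.X₃ ∧ (S.map (N p q K)).ShortExact ∧
      Good p q K (CohB1.tensorPow L n) ∧
      ∃ (κ : Type u) (_ : Fintype κ) (a : κ → (S.X₂ ⟶ CohB1.tensorPow L n))
        (b : κ → (CohB1.tensorPow L n ⟶ S.X₂)), ∑ i, a i ≫ b i = 𝟙 S.X₂ := by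
  obtain ⟨L', hL', ⟨e⟩⟩ := Grpsch.PicGrp.exists_inverse hL.1
  obtain ⟨n, hn, E, Q1, f, g, w, hE, hQ1, hS, κ, hκ, a, b, hab⟩ :=
    EmbAmp.exists_embed hL hL' e (max m₀ 1) Q hQ.flf
  have hn1 : 0 < n := lt_of_lt_of_le Nat.one_pos ((le_max_right m₀ 1).trans hn)
  have hEg : Good p q K E := Good.of_retract hE (hgood n hn1) a b hab
  obtain ⟨h1, h2⟩ := Good.quotient hKf hS hQ hEg hQ1
  exact ⟨n, (le_max_left m₀ 1).trans hn, _, rfl, hS, hEg, h1, h2, hgood n hn1, κ, hκ, a, b, hab⟩

end Step

end K528.PushSes
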