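import Groth.Agent.Sga3B.RedIdComp
import Groth.Agent.VarietyA.GlobalSections

/-!
# Reduced closed subschemes over an algebraically closed field

`exists_redSub`: a closed subset of an `Over (Spec k)` object as a reduced closed subobject.
`isIso_appTop`: `Γ(P, O) = k` for `P` proper, reduced and connected over `k` algebraically closed.
`isReduced_tensor`, `connectedSpace_tensor`.
-/

set_option autoImplicit false
universe u
open AlgebraicGeometry CategoryTheory Limits MonoidalCategory CartesianMonoidalCategory

namespace K528.RedClosed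

variable {k : Type u} [Field k]

theorem exists_redSub (X : Over (Spec (CommRingCat.of k))) (Z : Set X.left) (hZ : IsClosed Z) :
    ∃ (P : Over (Spec (CommRingCat.of k))) (j : P ⟶ X), IsClosedImmersion j.left ∧ IsReduced P.left ∧
      Set.range j.left = Z := by
  let C : TopologicalSpace.Closeds X.left := ⟨Z, hZ⟩
  let I : X.left.IdealSheafData := Scheme.IdealSheafData.vanishingIdeal C
  refine ⟨Over.mk (I.subschemeι ≫ X.hom), Over.homMk I.subschemeι rfl, ?_, ?_, ?_⟩
  · exact inferInstanceAs (IsClosedImmersion I.subschemeι)
  · exact Groth.Agent.Ega1.ReducedSub.isReduced_subscheme_vanishingIdeal _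
  · change Set.range I.subschemeι = _
    rw [Scheme.IdealSheafData.range_subschemeι]
    exact Scheme.IdealSheafData.coe_support_vanishingIdeal C

theorem isReduced_tensor [IsAlgClosed k] (X Y : Over (Spec (CommRingCat.of k))) [LocallyOfFiniteType X.hom]
    [IsReduced X.left] [IsReduced Y.left] : IsReduced (X ⊗ Y).left := by
  have := Groth.Agent.Sga3B.RedIdComp.geometricallyReduced_of_isReduced X.hom
  exact Groth.Agent.Sga3C.GeomRed.isReduced_pullback X.hom Y.hom

theorem locallyOfFiniteType_tensor (X Y : Over (Spec (CommRingCat.of k))) [LocallyOfFiniteType X.hom]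
    [LocallyOfFiniteType Y.hom] : LocallyOfFiniteType (X ⊗ Y).hom := by
  dsimp; infer_instance

theorem isProper_tensor (X Y : Over (Spec (CommRingCat.of k))) [IsProper X.hom]
    [IsProper Y.hom] : IsProper (X ⊗ Y).hom := by
  dsimp; infer_instance

theorem isIso_appTop [IsAlgClosed k] (P : Over (Spec (CommRingCat.of k))) [IsProper P.hom] [IsReduced P.left]
    [ConnectedSpace P.left] : IsIso P.hom.appTop := by
  rw [ConcreteCategory.isIso_iff_bijective]
  let B := Γ(P.left, ⊤)
  let _ : Algebra k B := (Groth.Agent.VarietyA.GlobalSections.gl P.hom).hom.toAlgebra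
  have : Algebra.IsIntegral k B := by
    have := isIntegral_appTop_of_universallyClosed P.hom
    constructor
    have h2 : (Groth.Agent.VarietyA.GlobalSections.gl P.hom).hom.IsIntegral := by
      rw [Groth.Agent.VarietyA.GlobalSections.gl, CommRingCat.hom_comp]
      exact RingHom.IsIntegral.trans _ _ (RingHom.isIntegral_of_surjective _
        (Scheme.ΓSpecIso (CommRingCat.of k)).symm.commRingCatIsoToRingEquiv.surjective) this
    exact h2
  have : _root_.IsReduced B := inferInstanceAs (_root_.IsReduced Γ(P.left, ⊤))
  have : Nonempty P.left := inferInstance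
  have : Nonempty (⊤ : P.left.Opens) := ⟨⟨Classical.arbitrary P.left, trivial⟩⟩
  have : Nontrivial B := Scheme.component_nontrivial P.left ⊤
  have h1 : Function.Bijective (algebraMap k B) :=
    Groth.Agent.VarietyA.GlobalSections.algebraMap_bijective_of_connected
      (fun e he => Groth.Agent.VarietyA.GlobalSections.idem_of_connected P.left e he)
  have h2 : (algebraMap k B : k → B) =
      (P.hom.appTop : Γ(Spec (CommRingCat.of k), ⊤) → Γ(P.left, ⊤)) ∘ (Scheme.ΓSpecIso (CommRingCat.of k)).inv := rfl
  rw [h2] at h1
  have h3 : Function.Bijective ((Scheme.ΓSpecIso (CommRingCat.of k)).inv : k → Γ(Spec (CommRingCat.of k), ⊤)) :=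
    ConcreteCategory.bijective_of_isIso _
  exact (Function.Bijective.of_comp_iff _ h3).1 h1

/-- A rational point of a scheme separated over a field is closed. -/
theorem isClosed_pt_of_isSeparated (Y : Over (Spec (CommRingCat.of k))) [IsSeparated Y.hom]
    (y : 𝟙_ (Over (Spec (CommRingCat.of k))) ⟶ Y) : IsClosed {Groth.Agent.Books.AlgPts.pt y} := by
  have hsub : Subsingleton (Spec (CommRingCat.of k)) := inferInstanceAs (Subsingleton (PrimeSpectrum k))
  have h0 : IsClosedImmersion (y.left ≫ Y.hom) := by
    rw [Over.w]
    dsimp
    infer_instance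
  have h1 : IsClosedImmersion y.left := .of_comp _ (g := Y.hom)
  have h2 := y.left.isClosedEmbedding.isClosed_range
  have h3 : Set.range y.left = {Groth.Agent.Books.AlgPts.pt y} := by
    ext z
    constructor
    · rintro ⟨w, rfl⟩
      exact congrArg y.left (hsub.elim _ _)
    · rintro rfl
      exact ⟨_, rfl⟩
  rwa [h3] at h2

end K528.RedClosed
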