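import Groth.Agent.Sga3.H780.RigidProper
import Mathlib.AlgebraicGeometry.Sites.Fpqc

/-!
# The rigidity lemma without rational points

`exists_fac`: `P` proper geometrically integral over a field, `Y` a scheme with `P × P × Y` integral, `A` separated,
`ψ : P × Y ⟶ A` such that all points over one point `y` of `Y` go to one point `a`; then `ψ` factors through `Y`.
`exists_fac_of_isIso`: the same with `Γ(P, O) = k`, `Y` irreducible and `P × P × Y` reduced.
-/

set_option autoImplicit false
universe u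
open AlgebraicGeometry CategoryTheory Limits MonoidalCategory CartesianMonoidalCategory

namespace K528.Rigid

variable {k : Type u} [Field k]

open Groth.Agent.Sga3.H780.RigidProper

theorem isIso_snd_appTop (P T : Over (Spec (CommRingCat.of k))) [IsProper P.hom] [IsIso P.hom.appTop]
    [IsAffine T.left] : IsIso (snd P T).left.appTop := by
  have H : IsPullback (fst P T).left (snd P T).left P.hom T.hom := IsPullback.of_hasPullback _ _
  have hflat : Flat T.hom := inferInstance
  have hc : CompactSpace P.left := (quasiCompact_iff_compactSpace P.hom).mp inferInstance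
  have hq : QuasiSeparatedSpace P.left := (quasiSeparated_iff_quasiSeparatedSpace P.hom).mp inferInstance
  have h := Groth.Agent.Books.AntiAffine.isPushout_appTop_of_flat H
  exact h.isIso_inr_of_isIso

/-- A morphism `P × T ⟶ A` (`T` affine) landing in an affine open of `A` factors through `T`. -/
theorem exists_fac_affine (P T A : Over (Spec (CommRingCat.of k))) [IsProper P.hom] [IsIso P.hom.appTop]
    [IsAffine T.left] (α : P ⊗ T ⟶ A) (W : A.left.Opens)
    (hW : IsAffineOpen W) (hα : ∀ z, α.left z ∈ W) :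
    ∃ β : T.left ⟶ A.left, α.left = (snd P T).left ≫ β := by
  have : IsAffine W := hW
  have h4 : Set.range α.left ⊆ Set.range W.ι := by
    rintro _ ⟨z, rfl⟩; simpa using hα z
  let α' := IsOpenImmersion.lift W.ι α.left h4
  have hα' : α' ≫ W.ι = α.left := IsOpenImmersion.lift_fac _ _ _
  have hiso := isIso_snd_appTop P T
  let r : Γ(W, ⊤) ⟶ Γ(T.left, ⊤) := α'.appTop ≫ inv (snd P T).left.appTop
  let β' : T.left ⟶ W := T.left.isoSpec.hom ≫ Spec.map r ≫ (Scheme.isoSpec W).inv
  have hβ' : β'.appTop = r := by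
    have h1 := Scheme.toSpecΓ_naturality (f := β')
    have h2 : β' ≫ (Scheme.isoSpec W).hom = T.left.isoSpec.hom ≫ Spec.map r := by
      simp [β']
    have h3 : T.left.isoSpec.hom ≫ Spec.map (β'.appTop) = T.left.isoSpec.hom ≫ Spec.map r := by
      rw [← h2, Scheme.isoSpec_hom, Scheme.isoSpec_hom, h1]
    rw [cancel_epi] at h3
    exact Spec.map_injective h3
  have h6 : α' = (snd P T).left ≫ β' := by
    apply ext_of_isAffine
    rw [Scheme.Hom.comp_appTop, hβ']
    simp [r]
  refine ⟨β' ≫ W.ι, ?_⟩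
  rw [← hα', h6, Category.assoc]

lemma range_whiskerLeft (P : Over (Spec (CommRingCat.of k))) {T Y : Over (Spec (CommRingCat.of k))} (i : T ⟶ Y) :
    Set.range (P ◁ i).left = (snd P Y).left ⁻¹' (Set.range i.left) := by
  rw [← id_tensorHom, Over.tensorHom_left, Scheme.Pullback.range_map]
  have h1 : Set.range (𝟙 P : P ⟶ P).left = Set.univ := by
    rw [Over.id_left, Scheme.Hom.id_base]
    exact Set.range_id
  rw [h1, Set.preimage_univ, Set.univ_inter]
  rfl

/-- The rigidity lemma, without rational points. -/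
theorem exists_fac_of_isIso (P Y A : Over (Spec (CommRingCat.of k))) [IsProper P.hom] [IsIso P.hom.appTop]
    [Surjective P.hom] [IrreducibleSpace Y.left]
    [IsReduced (P ⊗ (P ⊗ Y)).left] [IsSeparated A.hom] (ψ : P ⊗ Y ⟶ A) (y : Y.left) (a : A.left)
    (h : ∀ z : (P ⊗ Y).left, (snd P Y).left z = y → ψ.left z = a) :
    ∃ g : Y ⟶ A, ψ = snd P Y ≫ g := by
  have hsub : Subsingleton (Spec (CommRingCat.of k)) := inferInstanceAs (Subsingleton (PrimeSpectrum k))
  obtain ⟨_, ⟨W', hW, rfl⟩, haW, -⟩ := A.left.isBasis_affineOpens.exists_subset_of_mem_open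
    (Set.mem_univ a) isOpen_univ
  let W : A.left.Opens := W'
  have hprop : IsProper (snd P Y).left := by dsimp; infer_instance
  have hflat : Flat (snd P Y).left := by dsimp; infer_instance
  have hsurj : Surjective (snd P Y).left := by dsimp; infer_instance
  have hcl : IsClosedMap (snd P Y).left := (snd P Y).left.isClosedMap
  let Z : Set Y.left := (snd P Y).left '' (ψ.left ⁻¹' (W : Set A.left)ᶜ)
  have hZ : IsClosed Z := hcl _ (W.isOpen.isClosed_compl.preimage ψ.left.continuous)
  have hy0 : y ∉ Z := by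
    rintro ⟨z, hz, hz'⟩
    exact hz (by rw [h z hz']; exact haW)
  obtain ⟨_, ⟨T', hT, rfl⟩, hyT, hTZ⟩ := Y.left.isBasis_affineOpens.exists_subset_of_mem_open
    (show y ∈ Zᶜ from hy0) hZ.isOpen_compl
  let T₀ : Y.left.Opens := T'
  let T : Over (Spec (CommRingCat.of k)) := Over.mk (T₀.ι ≫ Y.hom)
  let i : T ⟶ Y := Over.homMk T₀.ι rfl
  have hTaff : IsAffine T.left := hT
  have hi : IsOpenImmersion i.left := inferInstanceAs (IsOpenImmersion T₀.ι)
  have hmem : ∀ z : (P ⊗ Y).left, (snd P Y).left z ∈ T₀ → ψ.left z ∈ W := by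
    intro z hz
    by_contra hcon
    exact hTZ hz ⟨z, hcon, rfl⟩
  have hsT : (P ◁ i) ≫ snd P Y = snd P T ≫ i := by simp
  have hsnd : ∀ z : (P ⊗ T).left, (snd P Y).left ((P ◁ i).left z) ∈ T₀ := by
    intro z
    rw [← Scheme.Hom.comp_apply, ← Over.comp_left, hsT, Over.comp_left, Scheme.Hom.comp_apply]
    have : i.left ((snd P T).left z) ∈ Set.range T₀.ι := ⟨_, rfl⟩
    simpa using this
  obtain ⟨β, hβ⟩ := exists_fac_affine P T A ((P ◁ i) ≫ ψ) W hW (fun z => by
    rw [Over.comp_left, Scheme.Hom.comp_apply]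
    exact hmem _ (hsnd z))
  -- the two morphisms from the double product
  let q₁ : P ⊗ (P ⊗ Y) ⟶ P ⊗ Y := lift (fst _ _) (snd _ _ ≫ snd _ _)
  let q₂ : P ⊗ (P ⊗ Y) ⟶ P ⊗ Y := snd _ _
  let j : P ⊗ (P ⊗ T) ⟶ P ⊗ (P ⊗ Y) := P ◁ (P ◁ i)
  let q₁' : P ⊗ (P ⊗ T) ⟶ P ⊗ T := lift (fst _ _) (snd _ _ ≫ snd _ _)
  let q₂' : P ⊗ (P ⊗ T) ⟶ P ⊗ T := snd _ _
  have e1 : j ≫ q₁ = q₁' ≫ (P ◁ i) := by
    apply CartesianMonoidalCategory.hom_ext <;> simp [j, q₁, q₁']
  have e2 : j ≫ q₂ = q₂' ≫ (P ◁ i) := by
    simp [j, q₂, q₂']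
  have e3 : q₁' ≫ snd P T = q₂' ≫ snd P T := by simp [q₁', q₂']
  have key : j ≫ q₁ ≫ ψ = j ≫ q₂ ≫ ψ := by
    rw [← Category.assoc, ← Category.assoc, e1, e2, Category.assoc, Category.assoc]
    ext1
    rw [Over.comp_left _ _ _ q₁', Over.comp_left _ _ _ q₂', hβ, ← Category.assoc, ← Category.assoc,
      ← Over.comp_left, ← Over.comp_left, e3]
  have hq : q₁ ≫ ψ = q₂ ≫ ψ := by
    ext1
    have hdom : IsDominant j.left := by
      refine ⟨?_⟩
      have ho1 : UniversallyOpen (snd P Y).left := by dsimp; infer_instance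
      have ho2 : UniversallyOpen (snd P (P ⊗ Y)).left := by
        rw [Over.snd_left]; infer_instance
      have hr : Set.range j.left = (snd P (P ⊗ Y)).left ⁻¹' ((snd P Y).left ⁻¹' (T₀ : Set Y.left)) := by
        simp only [j]
        rw [range_whiskerLeft, range_whiskerLeft]
        congr 2
        exact Scheme.Opens.range_ι T₀
      have hd : Dense (T₀ : Set Y.left) := T₀.isOpen.dense ⟨y, hyT⟩
      change Dense (Set.range j.left)
      rw [hr]
      exact (hd.preimage (snd P Y).left.isOpenMap).preimage (snd P (P ⊗ Y)).left.isOpenMap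
    refine ext_of_isDominant_of_isSeparated (A.hom) ?_ j.left ?_
    · rw [Over.w, Over.w]
    · rw [← Over.comp_left, ← Over.comp_left, key]
  have hee : EffectiveEpi (snd P Y).left := inferInstance
  have hg : ∀ {T : Scheme.{u}} (a b : T ⟶ (P ⊗ Y).left), a ≫ (snd P Y).left = b ≫ (snd P Y).left →
      a ≫ ψ.left = b ≫ ψ.left := by
    intro S a b hab
    let S' : Over (Spec (CommRingCat.of k)) := Over.mk (a ≫ (P ⊗ Y).hom)
    let a' : S' ⟶ P ⊗ Y := Over.homMk a rfl
    let b' : S' ⟶ P ⊗ Y := Over.homMk b (by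
      have h1 := congr($hab ≫ Y.hom)
      rw [Category.assoc, Category.assoc, Over.w] at h1
      exact h1.symm)
    have hab' : a' ≫ snd P Y = b' ≫ snd P Y := by
      ext1
      exact hab
    let c : S' ⟶ P ⊗ (P ⊗ Y) := lift (a' ≫ fst P Y) b'
    have c1 : c ≫ q₁ = a' := by
      apply CartesianMonoidalCategory.hom_ext
      · simp [c, q₁]
      · simp [c, q₁, hab']
    have c2 : c ≫ q₂ = b' := by simp [c, q₂]
    have : a' ≫ ψ = b' ≫ ψ := by rw [← c1, ← c2, Category.assoc, Category.assoc, hq]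
    exact congrArg CommaMorphism.left this
  let g₀ : Y.left ⟶ A.left := EffectiveEpi.desc (snd P Y).left ψ.left hg
  have hg₀ : (snd P Y).left ≫ g₀ = ψ.left := EffectiveEpi.fac (snd P Y).left ψ.left hg
  have hg₁ : g₀ ≫ A.hom = Y.hom := by
    rw [← cancel_epi (snd P Y).left, ← Category.assoc, hg₀, Over.w, Over.w]
  refine ⟨Over.homMk g₀ hg₁, ?_⟩
  ext1
  exact hg₀.symm

/-- The rigidity lemma for a proper geometrically integral `P`, without rational points. -/
theorem exists_fac (P Y A : Over (Spec (CommRingCat.of k))) [IsProper P.hom] [GeometricallyIntegral P.hom]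
    [IsIntegral Y.left] [IsIntegral (P ⊗ (P ⊗ Y)).left] [IsSeparated A.hom] (ψ : P ⊗ Y ⟶ A) (y : Y.left) (a : A.left)
    (h : ∀ z : (P ⊗ Y).left, (snd P Y).left z = y → ψ.left z = a) :
    ∃ g : Y ⟶ A, ψ = snd P Y ≫ g := by
  have := isIso_appTop_hom P
  exact exists_fac_of_isIso P Y A ψ y a h

/-- The second projection is an epimorphism. -/
theorem snd_cancel (P Y A : Over (Spec (CommRingCat.of k))) [QuasiCompact P.hom] [Surjective P.hom]
    {f g : Y ⟶ A} (h : snd P Y ≫ f = snd P Y ≫ g) : f = g := by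
  have hqc : QuasiCompact (snd P Y).left := by dsimp; infer_instance
  have hflat : Flat (snd P Y).left := by dsimp; infer_instance
  have hsurj : Surjective (snd P Y).left := by dsimp; infer_instance
  have hee : EffectiveEpi (snd P Y).left := inferInstance
  ext1
  rw [← cancel_epi (snd P Y).left, ← Over.comp_left, ← Over.comp_left, h]

end K528.Rigid
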