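import Groth.Agent.AbVar.K515.Bc
import Groth.Agent.AbVar.K510.TateHom
import Groth.Agent.AbVar.K521.BcTate

/-!
# Homomorphisms of abelian varieties over any field and Tate modules of geometric points

Reduced form of `K522.Bridge` (only the linear independence and finiteness statements, with light imports).
* `bcAdd : Hom(X, Y) →+ Hom(X_Ω, Y_Ω)` injective;
* `injective_tateMap`, `linearIndependent`, `finite_hom` over any field.
-/

set_option autoImplicit false
universe u

open CategoryTheory CategoryTheory.Limits MonoidalCategory CartesianMonoidalCategory AlgebraicGeometry MonObj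
open Groth.Agent.Sga7.H761.BaseChg Groth.Agent.Sga7.H761.TransSig
open AbDual K515.Bc

noncomputable section

namespace K528.TateAny

variable {k : Type u} [Field k] (Ω : Type u) [Field Ω] [Algebra k Ω]
  {X Y : Over (Spec (CommRingCat.of k))}

section mul

variable [GrpObj X] [GrpObj Y]

theorem adjn_comp_right {T : Over (Spec (CommRingCat.of Ω))} (a : T ⟶ bc Ω X) (u : X ⟶ Y) :
    adjn Ω (a ≫ bcHom Ω u) = adjn Ω a ≫ u :=
  (Over.mapPullbackAdj (fKL k Ω)).homEquiv_naturality_right_symm a u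

theorem eq_of_adjn {T : Over (Spec (CommRingCat.of Ω))} {a b : T ⟶ bc Ω X} (h : adjn Ω a = adjn Ω b) : a = b :=
  ((Over.mapPullbackAdj (fKL k Ω)).homEquiv T X).symm.injective h

theorem bcHom_mul (f g : X ⟶ Y) : bcHom Ω (f * g) = bcHom Ω f * bcHom Ω g := by
  apply eq_of_adjn
  rw [adjn_mul, ← Category.id_comp (bcHom Ω (f * g)), ← Category.id_comp (bcHom Ω f), ← Category.id_comp (bcHom Ω g),
    adjn_comp_right, adjn_comp_right, adjn_comp_right, MonObj.comp_mul]

end mul

theorem epi_pr (X : Over (Spec (CommRingCat.of k))) : Epi (pr Ω X) := by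
  have h1 : Surjective (fKL k Ω) := ⟨fun y => ⟨IsLocalRing.closedPoint Ω, Subsingleton.elim (α := PrimeSpectrum k) _ _⟩⟩
  have h2 : Flat (fKL k Ω) := by
    unfold fKL
    infer_instance
  have h3 : QuasiCompact (fKL k Ω) := inferInstance
  have h4 : Surjective (pr Ω X) := inferInstance
  have h5 : Flat (pr Ω X) := inferInstance
  have h6 : QuasiCompact (pr Ω X) := inferInstance
  exact Flat.epi_of_flat_of_surjective _

theorem bcHom_injective {f g : X ⟶ Y} (h : bcHom Ω f = bcHom Ω g) : f = g := by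
  haveI := epi_pr Ω X
  ext1
  rw [← cancel_epi (pr Ω X), ← bcHom_pr, ← bcHom_pr, h]

section tate

variable [GrpObj X] [IsCommMonObj X] [IsProper X.hom] [GeometricallyIntegral X.hom]
  [GrpObj Y] [IsCommMonObj Y] [IsProper Y.hom] [GeometricallyIntegral Y.hom]

/-- Base change of homomorphisms. -/
def bcAdd (X Y : Over (Spec (CommRingCat.of k))) [GrpObj X] [IsCommMonObj X] [IsProper X.hom]
    [GeometricallyIntegral X.hom] [GrpObj Y] [IsCommMonObj Y] [IsProper Y.hom] [GeometricallyIntegral Y.hom] :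
    EndAV.Hom X Y →+ EndAV.Hom (bc Ω X) (bc Ω Y) :=
  AddMonoidHom.mk' (fun f => EndAV.Hom.of (bcHom Ω f.toHom)) fun f g => EndAV.Hom.ext (bcHom_mul Ω f.toHom g.toHom)

theorem bcAdd_injective : Function.Injective (bcAdd Ω X Y) := fun _ _ h =>
  EndAV.Hom.ext (bcHom_injective Ω (congrArg EndAV.Hom.toHom h))

variable (l : ℕ) [Fact l.Prime]

/-- The comparison of Tate modules. -/
def tateE (X : Over (Spec (CommRingCat.of k))) [GrpObj X] [IsCommMonObj X] [IsProper X.hom] [GeometricallyIntegral X.hom] :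
    TateMod (bc Ω X) l (Over.mk (𝟙 (Spec (CommRingCat.of Ω)))) ≃ₗ[ℤ_[l]] TateMod X l (SGA7.pt (K := k) Ω) :=
  K521.BcTate.tateCongr l (ptE Ω (X := X))

theorem tateE_comp (f : X ⟶ Y) [IsMonHom f] (z : TateMod (bc Ω X) l (Over.mk (𝟙 (Spec (CommRingCat.of Ω))))) :
    tateE Ω l Y (tateMapₗ (bcHom Ω f) z) = tateMapₗ f (tateE Ω l X z) :=
  TateMod.ext fun n => congrArg Additive.ofMul (ptE_comp Ω f _)

/-- Conjugation by the comparison of Tate modules. -/
def conjE (X Y : Over (Spec (CommRingCat.of k))) [GrpObj X] [IsCommMonObj X] [IsProper X.hom]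
    [GeometricallyIntegral X.hom] [GrpObj Y] [IsCommMonObj Y] [IsProper Y.hom] [GeometricallyIntegral Y.hom] :
    (TateMod (bc Ω X) l (Over.mk (𝟙 (Spec (CommRingCat.of Ω)))) →ₗ[ℤ_[l]]
      TateMod (bc Ω Y) l (Over.mk (𝟙 (Spec (CommRingCat.of Ω))))) ≃ₗ[ℤ_[l]]
      (TateMod X l (SGA7.pt (K := k) Ω) →ₗ[ℤ_[l]] TateMod Y l (SGA7.pt (K := k) Ω)) :=
  LinearEquiv.arrowCongr (tateE Ω l X) (tateE Ω l Y)

theorem conjE_tateMap (f : EndAV.Hom X Y) :
    conjE Ω l X Y (EndAV.Hom.tateMap l (Over.mk (𝟙 (Spec (CommRingCat.of Ω)))) (bcAdd Ω X Y f)) =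
      EndAV.Hom.tateMap (A := X) (B := Y) l (SGA7.pt (K := k) Ω) f := by
  refine LinearMap.ext fun z => ?_
  obtain ⟨w, rfl⟩ := (tateE Ω l X).surjective z
  change tateE Ω l Y (tateMapₗ (bcHom Ω f.toHom) ((tateE Ω l X).symm (tateE Ω l X w))) = tateMapₗ f.toHom (tateE Ω l X w)
  rw [LinearEquiv.symm_apply_apply]
  exact tateE_comp Ω l f.toHom w

variable {l} [IsAlgClosed Ω]

theorem cast_ne_zero {n : ℕ} (hl : (n : k) ≠ 0) : (n : Ω) ≠ 0 := by
  rw [← map_natCast (algebraMap k Ω)]
  exact (map_ne_zero (algebraMap k Ω)).mpr hl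

/-- `Hom(X, Y) → Hom(T_l X, T_l Y)` is injective. -/
theorem injective_tateMap (hl : (l : k) ≠ 0) :
    Function.Injective (EndAV.Hom.tateMap (A := X) (B := Y) l (SGA7.pt (K := k) Ω)) := by
  intro f g h
  rw [← conjE_tateMap, ← conjE_tateMap] at h
  exact bcAdd_injective Ω (K510.TateHom.injective_tateMap (cast_ne_zero Ω hl) ((conjE Ω l X Y).injective h))

/-- Linear independence over `ℤ_l`. -/
theorem linearIndependent (hl : (l : k) ≠ 0) {J : Type*} (e : J → EndAV.Hom X Y) (he : LinearIndependent ℤ e) :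
    LinearIndependent ℤ_[l] (fun i => EndAV.Hom.tateMap (A := X) (B := Y) l (SGA7.pt (K := k) Ω) (e i)) := by
  have h1 : LinearIndependent ℤ (fun i => bcAdd Ω X Y (e i)) :=
    he.map' (bcAdd Ω X Y).toIntLinearMap (LinearMap.ker_eq_bot.mpr (bcAdd_injective Ω))
  have h2 := K510.TateHom.linearIndependent (cast_ne_zero Ω hl) _ h1
  have h3 := h2.map' (conjE Ω l X Y).toLinearMap (LinearEquiv.ker _)
  have h4 : (fun i => EndAV.Hom.tateMap (A := X) (B := Y) l (SGA7.pt (K := k) Ω) (e i)) =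
      (conjE Ω l X Y).toLinearMap ∘ fun i =>
        EndAV.Hom.tateMap l (Over.mk (𝟙 (Spec (CommRingCat.of Ω)))) (bcAdd Ω X Y (e i)) :=
    funext fun i => (conjE_tateMap Ω l (e i)).symm
  rw [h4]
  exact h3

end tate

section finite

variable (X Y) [GrpObj X] [IsCommMonObj X] [IsProper X.hom] [GeometricallyIntegral X.hom]
  [GrpObj Y] [IsCommMonObj Y] [IsProper Y.hom] [GeometricallyIntegral Y.hom]

/-- `Hom(X, Y)` is finitely generated. -/
theorem finite_hom : Module.Finite ℤ (EndAV.Hom X Y) := by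
  haveI := K510.TateHom.finite_hom (bc (AlgebraicClosure k) X) (bc (AlgebraicClosure k) Y)
  exact Module.Finite.of_injective (bcAdd (AlgebraicClosure k) X Y).toIntLinearMap (bcAdd_injective (AlgebraicClosure k))

end finite

end K528.TateAny
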